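import Cfsg.Agent.SqClass.Simple
import Cfsg.Agent.Fusion.AlperinGoldschmidt
import Cfsg.Agent.Fusion.OmegaFixed
import Cfsg.Agent.Fusion.Residual
import Cfsg.Agent.RankTwo.Dichotomy
import Cfsg.Agent.RankTwo.Blackburn
import Mathlib.GroupTheory.Focal

/-!
# An isolated element of order `p` in a perfect group of `p`-rank two

The setting and the first consequences: the element is central in its Sylow subgroups, fusion is
read off from the Alperin-Goldschmidt family, and `p'`-elements centralize invariant cyclic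
`p`-subgroups containing it.
-/

set_option autoImplicit false
set_option linter.all false

namespace Cfsg.Agent.IsolatedRankTwo

open Subgroup Cfsg.Agent.Fusion
open scoped commutatorElement

universe u

variable {p : ℕ} {L : Type u} [Group L]

/-- A perfect group of `p`-rank at most two with an element `x` of order `p` which is isolated in
the Sylow subgroup `P`. -/
structure Ctx (p : ℕ) (P : Sylow p L) (x : L) : Prop where
  perf : _root_.commutator L = ⊤
  hp2 : p ≠ 2
  ord : orderOf x = p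
  mem : x ∈ (P : Subgroup L)
  iso : ∀ g : L, g * x * g⁻¹ ∈ (P : Subgroup L) → g * x * g⁻¹ = x
  rank : Cfsg.PRankLE p 2 L

variable [Finite L] [hp : Fact p.Prime] {P : Sylow p L} {x : L}

namespace Ctx

variable (C : Ctx p P x)
include C

theorem pow_p : x ^ p = 1 := by
  have h := pow_orderOf_eq_one x
  rwa [C.ord] at h

theorem ne_one : x ≠ 1 := fun h => hp.out.one_lt.ne (by rw [← C.ord, h, orderOf_one])

theorem comm {s : L} (hs : s ∈ (P : Subgroup L)) : Commute s x :=
  mul_inv_eq_iff_eq_mul.mp (C.iso s (mul_mem (mul_mem hs C.mem) (inv_mem hs)))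

theorem exists_into {R : Subgroup L} (hR : IsPGroup p R) (hxR : x ∈ R) :
    ∃ y : L, y * x * y⁻¹ = x ∧ ∀ r ∈ R, y * r * y⁻¹ ∈ (P : Subgroup L) := by
  obtain ⟨S, hS⟩ := hR.exists_le_sylow
  obtain ⟨y, hy⟩ := MulAction.exists_smul_eq L S P
  have h : ∀ r ∈ R, y * r * y⁻¹ ∈ (P : Subgroup L) := fun r hr => by
    rw [← hy]; exact ⟨r, hS hr, rfl⟩
  exact ⟨y, C.iso y (h x hxR), h⟩

theorem iso' {R : Subgroup L} (hR : IsPGroup p R) (hxR : x ∈ R) {g : L} (hg : g * x * g⁻¹ ∈ R) :
    g * x * g⁻¹ = x := by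
  obtain ⟨y, hyx, hy⟩ := C.exists_into hR hxR
  have h1 : y * (g * x * g⁻¹) * y⁻¹ = y * x * y⁻¹ := by
    have h2 := hy _ hg
    have e : y * (g * x * g⁻¹) * y⁻¹ = (y * g) * x * (y * g)⁻¹ := by group
    rw [e] at h2 ⊢
    rw [C.iso _ h2, hyx]
  exact mul_left_cancel (mul_right_cancel h1)

theorem fix {R : Subgroup L} (hR : IsPGroup p R) (hxR : x ∈ R) {g : L}
    (hg : g ∈ normalizer (R : Set L)) : g * x * g⁻¹ = x :=
  C.iso' hR hxR ((mem_normalizer_iff.mp hg x).mp hxR)

theorem comm' {R : Subgroup L} (hR : IsPGroup p R) (hxR : x ∈ R) {g : L} (hg : g ∈ R) :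
    Commute g x :=
  mul_inv_eq_iff_eq_mul.mp (C.fix hR hxR (Subgroup.le_normalizer hg))

theorem mem_comm : x ∈ ⁅(P : Subgroup L), (P : Subgroup L)⁆ := by
  rw [← map_subtype_commutator]
  exact ⟨_, SqClass.mem_commutator_of_isolated C.perf P C.mem C.iso, rfl⟩

theorem rank_subgroup (R : Subgroup L) : Cfsg.PRankLE p 2 R := RankTwo.pRankLE_subgroup C.rank R

/-- The focal subgroup of a Sylow subgroup of a perfect group is the whole of it. -/
theorem le_of_focal {H : Subgroup L}
    (h : ∀ a ∈ (P : Subgroup L), ∀ g : L, g * a * g⁻¹ ∈ (P : Subgroup L) →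
      a⁻¹ * (g * a * g⁻¹) ∈ H) : (P : Subgroup L) ≤ H := by
  have h1 : (P : Subgroup L) = (P : Subgroup L).focalSubgroup := by
    rw [← Subgroup.commutator_inf_eq_focalSubgroup P, C.perf, top_inf_eq]
  rw [h1, focalSubgroup_def, closure_le]
  rintro _ ⟨hg, a, ha, u, rfl⟩
  have hua : u * a⁻¹ * u⁻¹ ∈ (P : Subgroup L) := by
    have := mul_mem (inv_mem ha) hg
    rwa [commutatorElement_def, show a⁻¹ * (a * u * a⁻¹ * u⁻¹) = u * a⁻¹ * u⁻¹ by group] at this
  have h2 := h a⁻¹ (inv_mem ha) u hua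
  rw [inv_inv, show a * (u * a⁻¹ * u⁻¹) = ⁅a, u⁆ by rw [commutatorElement_def]; group] at h2
  exact h2

omit C in
theorem gChain_focal {H : Subgroup L}
    (h : ∀ D : Subgroup L, GCond P D → ∀ a ∈ D, ∀ n ∈ normalizer (D : Set L),
      a⁻¹ * (n⁻¹ * a * n) ∈ H)
    {A : Set L} {g : L} (hc : GChain P A g) : ∀ a ∈ A, a⁻¹ * (g⁻¹ * a * g) ∈ H := by
  induction hc with
  | base c hc =>
    intro a ha
    rw [show c⁻¹ * a * c = a by
      rw [mul_assoc, mem_centralizer_iff.mp hc a ha, inv_mul_cancel_left], inv_mul_cancel]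
    exact one_mem _
  | @cons A g y D hA hy hD _ ih =>
    intro a ha
    have h1 := h D hD a (hA ha) y hy
    have h2 := ih (y⁻¹ * a * y) ⟨a, ha, rfl⟩
    have := mul_mem h1 h2
    rwa [show a⁻¹ * (y⁻¹ * a * y) * ((y⁻¹ * a * y)⁻¹ * (g⁻¹ * (y⁻¹ * a * y) * g)) =
      a⁻¹ * ((y * g)⁻¹ * a * (y * g)) by group] at this

/-- The focal criterion along the Alperin-Goldschmidt family. -/
theorem le_of_family {H : Subgroup L}
    (h : ∀ D : Subgroup L, GCond P D → ∀ a ∈ D, ∀ n ∈ normalizer (D : Set L),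
      a⁻¹ * (n⁻¹ * a * n) ∈ H) : (P : Subgroup L) ≤ H := by
  refine C.le_of_focal fun a ha g hg => ?_
  have hchain : GChain P ({a} : Set L) g⁻¹ := gChain_of_subset P (Set.singleton_subset_iff.mpr ha) (by
    rintro _ ⟨b, rfl, rfl⟩
    show g⁻¹⁻¹ * b * g⁻¹ ∈ (P : Subgroup L)
    rw [inv_inv]
    exact hg)
  have h1 := gChain_focal h hchain a rfl
  rwa [inv_inv] at h1

omit C in
theorem mem_H_of_normalizer {a n : L} (ha : a ∈ (P : Subgroup L))
    (hn : n ∈ normalizer ((P : Subgroup L) : Set L)) :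
    a⁻¹ * (n⁻¹ * a * n) ∈ ⁅(P : Subgroup L), normalizer ((P : Subgroup L) : Set L)⁆ := by
  rw [show a⁻¹ * (n⁻¹ * a * n) = ⁅a⁻¹, n⁻¹⁆ by rw [commutatorElement_def]; group]
  exact commutator_mem_commutator (inv_mem ha) (inv_mem hn)

/-- A `p'`-element normalizing a cyclic `p`-subgroup containing `x` centralizes it. -/
theorem fix_cyclic {Z : Subgroup L} (hZ : IsPGroup p Z) [IsCyclic Z] (hxZ : x ∈ Z) {g : L}
    (hg : g ∈ normalizer (Z : Set L)) (hgo : (orderOf g).Coprime p) :
    g ∈ centralizer (Z : Set L) := by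
  set a : MulAut Z := Z.normalizerMonoidHom ⟨g, hg⟩ with ha
  have hao : (orderOf a).Coprime p := by
    refine hgo.coprime_dvd_left ((orderOf_map_dvd _ _).trans ?_)
    rw [orderOf_mk]
  have h1 : a = 1 := eq_one_of_fixes_omega hZ a hao fun z hz => by
    have hzp : (z : L) ^ p = 1 := by
      rcases hz with hz | ⟨h2, -⟩
      · exact_mod_cast congrArg Subtype.val hz
      · exact absurd h2 C.hp2
    obtain ⟨i, hi⟩ := mem_zpowers_iff.mp (RankTwo.eq_zpow_of_cyclic hxZ C.ne_one C.pow_p z.2 hzp)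
    apply Subtype.ext
    show g * z * g⁻¹ = z
    rw [← hi, ← conj_zpow, C.fix hZ hxZ hg]
  rw [mem_centralizer_iff]
  intro z hz
  have h2 := congrArg Subtype.val (DFunLike.congr_fun h1 (⟨z, hz⟩ : Z))
  exact (mul_inv_eq_iff_eq_mul.mp (h2 : g * z * g⁻¹ = z)).symm

omit C in
/-- A `p`-element of the normalizer of a Sylow subgroup lies in it. -/
theorem mem_of_pElement {a : L} (ha : a ∈ normalizer ((P : Subgroup L) : Set L))
    (hk : ∃ k, orderOf a ∣ p ^ k) : a ∈ (P : Subgroup L) := by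
  obtain ⟨k, hk⟩ := hk
  obtain ⟨j, -, hj⟩ := (Nat.dvd_prime_pow hp.out).mp hk
  have hz : IsPGroup p (zpowers a) := IsPGroup.of_card (by rw [Nat.card_zpowers, hj])
  have hsup : IsPGroup p ((P : Subgroup L) ⊔ zpowers a : Subgroup L) :=
    IsPGroup.to_sup_of_normal_left' P.2 hz (zpowers_le.mpr ha)
  have := P.3 hsup le_sup_left
  exact this ▸ mem_sup_right (mem_zpowers a)

/-- If the centre of `P` is cyclic, two of its elements conjugate in the whole group are equal. -/
theorem eq_of_conj_center [IsCyclic ((P : Subgroup L) ⊓ centralizer ((P : Subgroup L) : Set L) : Subgroup L)]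
    {a g : L} (ha : a ∈ (P : Subgroup L) ⊓ centralizer ((P : Subgroup L) : Set L))
    (hga : g * a * g⁻¹ ∈ (P : Subgroup L) ⊓ centralizer ((P : Subgroup L) : Set L)) :
    g * a * g⁻¹ = a := by
  set Z := (P : Subgroup L) ⊓ centralizer ((P : Subgroup L) : Set L) with hZ
  have hga' := (mem_inf.mp hga).2
  obtain ⟨n, hn, hne⟩ := Sylow.conj_eq_normalizer_conj_of_mem_centralizer P a g⁻¹ (mem_inf.mp ha).2
    (by rwa [inv_inv])
  rw [inv_inv] at hne
  obtain ⟨s, t, hst, -, hsn, htn, hs, ht⟩ := exists_pPart_mul (p := p) n (isOfFinOrder_of_finite n)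
  have hsN := zpowers_le.mpr hn hsn
  have htN := zpowers_le.mpr hn htn
  have hsP := mem_of_pElement (P := P) hsN hs
  have htZ : t ∈ normalizer (Z : Set L) := by
    have hC : normalizer ((P : Subgroup L) : Set L) ≤
        normalizer ((centralizer ((P : Subgroup L) : Set L) : Subgroup L) : Set L) := by
      intro m hm
      rw [mem_normalizer_iff]
      intro c
      rw [mem_centralizer_iff, mem_centralizer_iff]
      constructor
      · intro h b hb
        have hb' : m⁻¹ * b * m ∈ (P : Subgroup L) := (mem_normalizer_iff''.mp hm b).mp hb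
        calc b * (m * c * m⁻¹) = m * ((m⁻¹ * b * m) * c) * m⁻¹ := by group
          _ = m * (c * (m⁻¹ * b * m)) * m⁻¹ := by rw [h _ hb']
          _ = m * c * m⁻¹ * b := by group
      · intro h b hb
        have hb' : m * b * m⁻¹ ∈ (P : Subgroup L) := (mem_normalizer_iff.mp hm b).mp hb
        calc b * c = m⁻¹ * ((m * b * m⁻¹) * (m * c * m⁻¹)) * m := by group
          _ = m⁻¹ * ((m * c * m⁻¹) * (m * b * m⁻¹)) * m := by rw [h _ hb']
          _ = c * b := by group
    rw [mem_normalizer_iff]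
    intro c
    rw [hZ, mem_inf, mem_inf, mem_normalizer_iff.mp htN c, mem_normalizer_iff.mp (hC htN) c]
  have hxZ : x ∈ Z := mem_inf.mpr ⟨C.mem, mem_centralizer_iff.mpr fun b hb => (C.comm hb).eq⟩
  have htc := C.fix_cyclic (P.2.to_le inf_le_left) hxZ htZ ht
  have hsc : s ∈ centralizer (Z : Set L) := mem_centralizer_iff.mpr fun c hc =>
    (mem_centralizer_iff.mp (mem_inf.mp hc).2 s hsP).symm
  have hnc : n ∈ centralizer (Z : Set L) := hst ▸ mul_mem hsc htc
  rw [hne, mul_assoc, mem_centralizer_iff.mp hnc a ha, inv_mul_cancel_left]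

end Ctx

end Cfsg.Agent.IsolatedRankTwo
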