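import Cfsg.Agent.LocalStructure.Isolated
import Cfsg.Agent.LocalStructure.CharP
import Cfsg.Agent.Fusion.Frobenius
import Cfsg.Agent.Fusion.OmegaFixed
import Cfsg.Agent.RankTwo.Generators
import Cfsg.Agent.Layer.PConstraint
import Cfsg.Agent.Layer.PComponent
import Cfsg.Agent.Layer.FStar

/-!
# The generalized Fitting subgroup around an isolated element of odd order in rank two

If `O_{p'}(G) = 1`, the `p`-rank is at most two and an isolated element of order `p` is not central,
then `O_p(G) = 1` and there is exactly one component, which is simple.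
-/

set_option autoImplicit false
set_option linter.all false

namespace Cfsg.Agent.IsolatedRankTwo

open Subgroup
open scoped commutatorElement

universe u

variable {p : ℕ} [hp : Fact p.Prime]

theorem exists_zpow_inverse {i : ℤ} (hi : ¬ (p : ℤ) ∣ i) :
    ∃ t : ℤ, ∀ {G : Type u} [Group G] (y : G), y ^ p = 1 → (y ^ i) ^ t = y := by
  obtain ⟨a, b, hab⟩ : IsCoprime (p : ℤ) i :=
    (Nat.prime_iff_prime_int.mp hp.out).coprime_iff_not_dvd.mpr hi
  refine ⟨b, fun y hy => ?_⟩
  rw [← zpow_mul, show i * b = 1 - (p : ℤ) * a by linarith, zpow_sub, zpow_one, zpow_mul,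
    zpow_natCast, hy, one_zpow, inv_one, mul_one]

variable {G : Type u} [Group G] [Finite G]

/-- A perfect group of order divisible by `p` whose elements of order `p` in a Sylow subgroup lie
modulo the centre on a line through an element isolated there does not exist. -/
theorem false_of_line (hp2 : p ≠ 2) (hperf : _root_.commutator G = ⊤) (hdvd : p ∣ Nat.card G)
    (P : Sylow p G) {e : G} (hep : e ^ p = 1) (he : e ∈ (P : Subgroup G))
    (hiso : ∀ g : G, g * e * g⁻¹ ∈ (P : Subgroup G) → g * e * g⁻¹ = e)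
    (hline : ∀ y ∈ (P : Subgroup G), y ^ p = 1 → ∃ i : ℤ, ∃ z ∈ center G, y = e ^ i * z) :
    False := by
  have hnc : Cfsg.HasNormalPComplement p G := by
    refine Fusion.hasNormalPComplement_of_frobenius fun Q hQ g hg hgo => ?_
    obtain ⟨S, hS⟩ := hQ.exists_le_sylow
    obtain ⟨s, hs⟩ := MulAction.exists_smul_eq G S P
    have hsP : ∀ q ∈ Q, s * q * s⁻¹ ∈ (P : Subgroup G) := fun q hq => by
      rw [← hs]; exact ⟨q, hS hq, rfl⟩
    set a : MulAut Q := Q.normalizerMonoidHom ⟨g, hg⟩ with ha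
    have hao : (orderOf a).Coprime p := by
      refine hgo.coprime_dvd_left ((orderOf_map_dvd _ _).trans ?_)
      rw [orderOf_mk]
    have h1 : a = 1 := Fusion.eq_one_of_fixes_omega hQ a hao fun y hy => by
      have hyp : (y : G) ^ p = 1 := by
        rcases hy with hy | ⟨h2, -⟩
        · exact_mod_cast congrArg Subtype.val hy
        · exact absurd h2 hp2
      apply Subtype.ext
      show g * y * g⁻¹ = y
      set h := s * g * s⁻¹ with hh
      have hgy : s * (g * y * g⁻¹) * s⁻¹ ∈ (P : Subgroup G) :=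
        hsP _ ((mem_normalizer_iff.mp hg _).mp y.2)
      have hsy : s * (y : G) * s⁻¹ ∈ (P : Subgroup G) := hsP _ y.2
      obtain ⟨i, z, hz, hyz⟩ := hline _ hsy (by rw [conj_pow, hyp, mul_one, mul_inv_cancel])
      have hzP : z ∈ (P : Subgroup G) := by
        have := mul_mem (inv_mem (zpow_mem he i)) hsy
        rwa [hyz, inv_mul_cancel_left] at this
      have hzc : ∀ c : G, c * z * c⁻¹ = z := fun c => by
        rw [mem_center_iff.mp hz c, mul_inv_cancel_right]
      have hconj : s * (g * y * g⁻¹) * s⁻¹ = (h * e * h⁻¹) ^ i * z := by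
        calc s * (g * y * g⁻¹) * s⁻¹ = h * (s * y * s⁻¹) * h⁻¹ := by rw [hh]; group
          _ = (h * e ^ i * h⁻¹) * (h * z * h⁻¹) := by rw [hyz]; group
          _ = (h * e * h⁻¹) ^ i * z := by rw [hzc, conj_zpow]
      have hfix : (h * e * h⁻¹) ^ i = e ^ i := by
        by_cases hi : (p : ℤ) ∣ i
        · obtain ⟨t, rfl⟩ := hi
          rw [conj_zpow, zpow_mul, zpow_natCast, hep, one_zpow, mul_one, mul_inv_cancel]
        · rw [hiso h (RankTwo.mem_of_zpow_mem (j := 1)
            (by rw [pow_one, conj_pow, hep, mul_one, mul_inv_cancel]) hi (by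
              have := mul_mem hgy (inv_mem hzP)
              rwa [hconj, mul_inv_cancel_right] at this))]
      rw [hfix, ← hyz] at hconj
      exact mul_left_cancel (mul_right_cancel hconj)
    rw [mem_centralizer_iff]
    intro y hy
    have h2 := congrArg Subtype.val (DFunLike.congr_fun h1 (⟨y, hy⟩ : Q))
    exact (mul_inv_eq_iff_eq_mul.mp (h2 : g * y * g⁻¹ = y)).symm
  obtain ⟨N, hN, hNc, k, hk⟩ := Fusion.hasNormalPComplement_iff_exists.mp hnc
  have hQ : IsPGroup p (G ⧸ N) := IsPGroup.of_card (n := k) (by rw [← index_eq_card, hk])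
  have hperf' : _root_.commutator (G ⧸ N) = ⊤ := by
    rw [_root_.commutator_def, ← Subgroup.map_top_of_surjective (QuotientGroup.mk' N)
      (QuotientGroup.mk'_surjective N), ← map_commutator, ← _root_.commutator_def, hperf]
  rcases subsingleton_or_nontrivial (G ⧸ N) with hs | hs
  · have htop : N = ⊤ := QuotientGroup.subsingleton_iff.mp hs
    rw [htop, card_top] at hNc
    exact hp.out.not_dvd_one (hNc.symm.eq_one_of_dvd hdvd ▸ dvd_rfl)
  · haveI := hQ.isNilpotent
    exact (Group.IsSolvable.commutator_lt_top_of_nontrivial (G ⧸ N)).ne hperf'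

/-- In rank two a third element of order `p` lies in the group of two commuting ones. -/
theorem exists_eq_zpow_mul (hrank : Cfsg.PRankLE p 2 G) {a b y : G}
    (ha : a ^ p = 1) (hb : b ^ p = 1) (hy : y ^ p = 1) (ha1 : a ≠ 1) (hab : b ∉ zpowers a)
    (cab : Commute a b) (cay : Commute a y) (cby : Commute b y) :
    ∃ i j : ℤ, y = a ^ i * b ^ j := by
  set S : Set G := {a, b, y} with hS
  have hcomm : ∀ u ∈ closure S, ∀ v ∈ closure S, u * v = v * u := by
    have hle : closure S ≤ centralizer (closure S : Set G) := by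
      rw [closure_le, centralizer_closure]
      rintro u (rfl | rfl | rfl) <;> refine mem_centralizer_iff.mpr ?_ <;>
        rintro v (rfl | rfl | rfl)
      exacts [rfl, cab.eq.symm, cay.eq.symm, cab.eq, rfl, cby.eq.symm, cay.eq, cby.eq, rfl]
    exact fun u hu v hv => mem_centralizer_iff.mp (hle hv) u hu
  have hexp : ∀ u ∈ closure S, u ^ p = 1 := by
    intro u hu
    induction hu using closure_induction with
    | mem w hw => rcases hw with rfl | rfl | rfl <;> assumption
    | one => exact one_pow p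
    | mul u v hu hv ihu ihv =>
      rw [(show Commute u v from hcomm u hu v hv).mul_pow, ihu, ihv, one_mul]
    | inv u _ ihu => rw [inv_pow, ihu, inv_one]
  have hA : Nat.card (closure S) ≤ p ^ 2 := RankTwo.card_le_of_rank hrank hcomm hexp
  let U : Subgroup G :=
    { carrier := {w | ∃ i j : ℤ, w = a ^ i * b ^ j}
      one_mem' := ⟨0, 0, by simp⟩
      mul_mem' := by
        rintro _ _ ⟨i, j, rfl⟩ ⟨k, l, rfl⟩
        refine ⟨i + k, j + l, ?_⟩
        rw [zpow_add, zpow_add, mul_assoc, ← mul_assoc (b ^ j), (cab.zpow_zpow k j).symm.eq]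
        simp [mul_assoc]
      inv_mem' := by
        rintro _ ⟨i, j, rfl⟩
        refine ⟨-i, -j, ?_⟩
        rw [mul_inv_rev, zpow_neg, zpow_neg, ((cab.zpow_zpow i j).inv_inv).eq] }
  have hUA : U ≤ closure S := by
    rintro _ ⟨i, j, rfl⟩
    exact mul_mem (zpow_mem (subset_closure (by simp [S])) i) (zpow_mem (subset_closure (by simp [S])) j)
  have hAp : IsPGroup p (closure S) := fun w =>
    ⟨1, Subtype.ext (by rw [SubmonoidClass.coe_pow, pow_one]; exact hexp w w.2)⟩
  have haU : zpowers a < U := lt_of_le_of_ne (zpowers_le.mpr ⟨1, 0, by simp⟩)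
    fun h => hab (h.ge ⟨0, 1, by simp⟩)
  obtain ⟨k, hk⟩ := (hAp.to_le hUA).exists_card_eq
  have hk2 : 2 ≤ k := by
    have h1 : Nat.card (zpowers a) < Nat.card U :=
      lt_of_le_of_ne (card_le_of_le haU.le) fun h => haU.ne (eq_of_le_of_card_ge haU.le h.ge)
    rw [Nat.card_zpowers, orderOf_eq_prime ha ha1, hk] at h1
    nth_rewrite 1 [← pow_one p] at h1
    exact (Nat.pow_lt_pow_iff_right hp.out.one_lt).mp h1
  have hU : U = closure S := eq_of_le_of_card_ge hUA
    (hA.trans (hk ▸ Nat.pow_le_pow_right hp.out.pos hk2))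
  exact (hU ▸ subset_closure (by simp [S]) : y ∈ U)

/-- The Sylow subgroup of a subnormal subgroup below a given one. -/
noncomputable def subSylow (S : Sylow p G) {K : Subgroup G} (hK : K.IsSubnormal) : Sylow p K :=
  (S.2.comap_subtype (K := K)).toSylow (LocalStructure.not_dvd_relIndex_subnormal S hK)

theorem mem_subSylow (S : Sylow p G) {K : Subgroup G} (hK : K.IsSubnormal) {y : K} :
    y ∈ (subSylow S hK : Subgroup K) ↔ (y : G) ∈ (S : Subgroup G) := Iff.rfl

theorem exists_orderP_mem (S : Sylow p G) {K : Subgroup G} (hK : K.IsSubnormal)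
    (hd : p ∣ Nat.card K) : ∃ a ∈ (S : Subgroup G), a ∈ K ∧ a ^ p = 1 ∧ a ≠ 1 := by
  have h1 : p ∣ Nat.card (subSylow S hK : Subgroup K) := by
    have h := (subSylow S hK).ne_bot_of_dvd_card hd
    exact (((subSylow S hK).2.card_eq_or_dvd).resolve_left fun e => h (card_eq_one.mp e))
  obtain ⟨a, ha⟩ := exists_prime_orderOf_dvd_card' p h1
  refine ⟨((a : K) : G), (mem_subSylow S hK).mp a.2, (a : K).2, ?_, ?_⟩
  · have h := congrArg (fun u : (subSylow S hK : Subgroup K) => ((u : K) : G))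
      (show a ^ p = 1 by have := pow_orderOf_eq_one a; rwa [ha] at this)
    simpa using h
  · intro h
    have : a = 1 := Subtype.ext (Subtype.ext h)
    rw [this, orderOf_one] at ha
    exact hp.out.one_lt.ne ha

variable (hp2 : p ≠ 2) (hcore : Cfsg.pPrimeCore p G = ⊥) (hrank : Cfsg.PRankLE p 2 G) {x : G}
  (hx : orderOf x = p) (hiso : Cfsg.IsIsolated x)

include hp2 hcore hrank hiso

theorem false_of_pair {S : Sylow p G} (hxS : x ∈ (S : Subgroup G)) {K M : Subgroup G}
    (hK : Cfsg.IsComponent K) (hM : Cfsg.IsComponent M) (hne : K ≠ M) {a b : G}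
    (haS : a ∈ (S : Subgroup G)) (haK : a ∈ K) (hap : a ^ p = 1) (ha1 : a ≠ 1)
    (hbS : b ∈ (S : Subgroup G)) (hbM : b ∈ M) (hbp : b ^ p = 1) (hb1 : b ≠ 1)
    (hdisj : K ⊓ M = ⊥) {i j : ℤ} (hxe : x = a ^ i * b ^ j) (hai : a ^ i ≠ 1) : False := by
  have hKM : ∀ u ∈ K, ∀ v ∈ M, Commute u v := fun u hu v hv =>
    Layer.commute_of_commutator_eq_bot (Layer.components_commute hK hM hne) hu hv
  have hpi : ¬ (p : ℤ) ∣ i := by
    rintro ⟨t, rfl⟩
    exact hai (by rw [zpow_mul, zpow_natCast, hap, one_zpow])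
  obtain ⟨t, ht⟩ := exists_zpow_inverse (p := p) hpi
  have hxc : ∀ s ∈ (S : Subgroup G), Commute s x := fun s hs =>
    (mem_centralizer_iff.mp (LocalStructure.le_centralizer_of_isolated hiso S.2 hxS hs) x rfl).symm
  have hab : b ∉ zpowers a := fun h => hb1 (by
    have : b ∈ K ⊓ M := ⟨zpowers_le.mpr haK h, hbM⟩
    rwa [hdisj, mem_bot] at this)
  refine false_of_line (G := K) hp2 hK.2.1.commutator_eq_top (Layer.dvd_card_component hcore hK)
    (subSylow S hK.1) (e := ⟨a, haK⟩) (Subtype.ext (by simpa using hap))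
    ((mem_subSylow S hK.1).mpr haS) (fun g hg => ?_) (fun y hy hyp => ?_)
  · have hg' : (g : G) * a * (g : G)⁻¹ ∈ (S : Subgroup G) := (mem_subSylow S hK.1).mp hg
    apply Subtype.ext
    show (g : G) * a * (g : G)⁻¹ = a
    have e : (g : G) * x * (g : G)⁻¹ = ((g : G) * a * (g : G)⁻¹) ^ i * b ^ j := by
      rw [hxe, conj_zpow]
      calc (g : G) * (a ^ i * b ^ j) * (g : G)⁻¹ = g * a ^ i * ((b ^ j) * (g : G)⁻¹) := by group
        _ = g * a ^ i * ((g : G)⁻¹ * b ^ j) := by rw [((hKM g g.2 b hbM).symm.zpow_left j).inv_right.eq]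
        _ = g * a ^ i * (g : G)⁻¹ * b ^ j := by group
    have h1 := LocalStructure.eq_of_mem_of_isolated hiso S.2 hxS (g := (g : G))
      (by rw [e]; exact mul_mem (zpow_mem hg' i) (zpow_mem hbS j))
    rw [e] at h1
    conv_rhs at h1 => rw [hxe]
    rw [← ht ((g : G) * a * (g : G)⁻¹) (by rw [conj_pow, hap, mul_one, mul_inv_cancel]),
      mul_right_cancel h1, ht a hap]
  · have hy' : (y : G) ∈ (S : Subgroup G) := (mem_subSylow S hK.1).mp hy
    have hyp' : (y : G) ^ p = 1 := by simpa using congrArg Subtype.val hyp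
    have cby : Commute b (y : G) := (hKM y y.2 b hbM).symm
    have cay : Commute a (y : G) := by
      have h1 : Commute (a ^ i) (y : G) := by
        have h2 := (hxc _ hy').symm
        have e : a ^ i = x * (b ^ j)⁻¹ := by rw [hxe, mul_inv_cancel_right]
        rw [e]
        exact h2.mul_left ((cby.zpow_left j).inv_left)
      have := h1.zpow_left t
      rwa [ht a hap] at this
    obtain ⟨k, l, hkl⟩ := exists_eq_zpow_mul hrank hap hbp hyp' ha1 hab (hKM a haK b hbM) cay cby
    have hbl : b ^ l = 1 := by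
      have : b ^ l ∈ K ⊓ M := by
        refine ⟨?_, zpow_mem hbM l⟩
        show b ^ l ∈ K
        rw [show b ^ l = (a ^ k)⁻¹ * (y : G) by rw [hkl, inv_mul_cancel_left]]
        exact mul_mem (inv_mem (zpow_mem haK k)) y.2
      rwa [hdisj, mem_bot] at this
    exact ⟨k, 1, one_mem _, Subtype.ext (by simp [hkl, hbl])⟩

include hx

theorem not_mem_pCore (hnc : x ∉ center G) : x ∉ Cfsg.pCore p G := by
  intro hxQ
  refine hnc (mem_center_iff.mpr fun g => ?_)
  exact mul_inv_eq_iff_eq_mul.mp (LocalStructure.eq_of_mem_of_isolated hiso Core.pCore_isPGroup hxQ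
    (Core.pCore_normal.conj_mem x hxQ g))

/-- `O_p(G) = 1`. -/
theorem pCore_eq_bot (hnc : x ∉ center G) : Cfsg.pCore p G = ⊥ := by
  by_contra hQ
  have hxp : x ^ p = 1 := by rw [← hx, pow_orderOf_eq_one]
  have hxQ := not_mem_pCore hp2 hcore hrank hx hiso hnc
  obtain ⟨S, hS⟩ := (LocalStructure.isPGroup_zpowers (p := p) (x := x) ⟨1, by rw [hx, pow_one]⟩).exists_le_sylow
  have hxS : x ∈ (S : Subgroup G) := hS (mem_zpowers x)
  have hQS : Cfsg.pCore p G ≤ (S : Subgroup G) := Core.pCore_le_sylow S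
  have hxc : ∀ s ∈ (S : Subgroup G), Commute s x := fun s hs =>
    (mem_centralizer_iff.mp (LocalStructure.le_centralizer_of_isolated hiso S.2 hxS hs) x rfl).symm
  -- there is a component
  have hF := Layer.fitting_eq_pCore_of_pPrimeCore_eq_bot (p := p) hcore
  have hlay : Cfsg.layer G ≠ ⊥ := fun h => by
    have h1 := Layer.layer_eq_bot_iff_centralizer_fitting.mp h
    rw [hF] at h1
    refine hxQ (h1 (mem_centralizer_iff.mpr fun q hq => (hxc q (hQS hq)).eq))
  obtain ⟨K, hK⟩ : ∃ K, Cfsg.IsComponent K := by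
    by_contra h
    push Not at h
    exact hlay (Layer.layer_eq_bot_iff.mpr h)
  have hKQ : ∀ u ∈ K, ∀ q ∈ Cfsg.pCore p G, Commute u q := fun u hu q hq =>
    (mem_centralizer_iff.mp (Layer.layer_le_centralizer_fitting (Layer.component_le_layer hK hu)) q
      (hF ▸ hq)).symm
  -- a central element of `S` in `O_p(G)`
  have hne : (Cfsg.pCore p G).subgroupOf (S : Subgroup G) ≠ ⊥ := fun h => hQ (by
    rw [subgroupOf_eq_bot, disjoint_iff, inf_eq_left.mpr hQS] at h
    exact h)
  obtain ⟨Z, hZQ, hZc, hZn, hZ⟩ := Fusion.exists_central_card_prime S.2 _ hne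
  obtain ⟨z', hz'⟩ := exists_prime_orderOf_dvd_card' (G := Z) p hZ.symm.dvd
  set z : G := ((z' : (S : Subgroup G)) : G) with hz
  have hzQ : z ∈ Cfsg.pCore p G := mem_subgroupOf.mp (hZQ z'.2)
  have hzo : orderOf z = p := by rw [hz, Subgroup.orderOf_coe, Subgroup.orderOf_coe, hz']
  have hzp : z ^ p = 1 := by rw [← hzo, pow_orderOf_eq_one]
  have hz1 : z ≠ 1 := fun h => hp.out.one_lt.ne (by rw [← hzo, h, orderOf_one])
  have hzc : ∀ s ∈ (S : Subgroup G), Commute z s := fun s hs =>
    (congrArg Subtype.val (mem_center_iff.mp (hZc z'.2) (⟨s, hs⟩ : (S : Subgroup G)))).symm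
  have hxz : x ∉ zpowers z := fun h => hxQ (zpowers_le.mpr hzQ h)
  have hdec : ∀ y : K, y ∈ (subSylow S hK.1 : Subgroup K) → y ^ p = 1 →
      ∃ i j : ℤ, (y : G) = z ^ i * x ^ j := fun y hy hyp => by
    have hy' : (y : G) ∈ (S : Subgroup G) := (mem_subSylow S hK.1).mp hy
    exact exists_eq_zpow_mul hrank hzp hxp (by simpa using congrArg Subtype.val hyp) hz1 hxz
      (hzc x hxS) (hzc _ hy') (hxc _ hy').symm
  have hcen : ∀ w : K, (∃ i : ℤ, (w : G) = z ^ i) → w ∈ center K := by
    rintro w ⟨i, hi⟩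
    refine mem_center_iff.mpr fun u => Subtype.ext ?_
    rw [Subgroup.coe_mul, Subgroup.coe_mul, hi, (hKQ u u.2 _ (zpow_mem hzQ i)).eq]
  by_cases hall : ∀ y : K, y ∈ (subSylow S hK.1 : Subgroup K) → y ^ p = 1 → ∃ i : ℤ, (y : G) = z ^ i
  · exact false_of_line hp2 hK.2.1.commutator_eq_top (Layer.dvd_card_component hcore hK)
      (subSylow S hK.1) (e := 1) (one_pow p) (one_mem _) (fun g _ => by simp)
      fun y hy hyp => ⟨0, y, hcen y (hall y hy hyp), by simp⟩
  push Not at hall
  obtain ⟨y₀, hy₀, hy₀p, hy₀n⟩ := hall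
  obtain ⟨i₀, j₀, he₀⟩ := hdec y₀ hy₀ hy₀p
  have hj₀ : ¬ (p : ℤ) ∣ j₀ := by
    rintro ⟨t, rfl⟩
    exact hy₀n i₀ (by rw [he₀, zpow_mul, zpow_natCast, hxp, one_zpow, mul_one])
  obtain ⟨t, ht⟩ := exists_zpow_inverse (p := p) hj₀
  have hcxz : Commute z x := hzc x hxS
  have he : ((y₀ ^ t : K) : G) = z ^ (i₀ * t) * x := by
    rw [SubgroupClass.coe_zpow, he₀, (hcxz.zpow_zpow i₀ j₀).mul_zpow, ht x hxp, ← zpow_mul]
  refine false_of_line hp2 hK.2.1.commutator_eq_top (Layer.dvd_card_component hcore hK)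
    (subSylow S hK.1) (e := y₀ ^ t)
    (by rw [← zpow_natCast, ← zpow_mul, Int.mul_comm, zpow_mul, zpow_natCast, hy₀p, one_zpow])
    (zpow_mem hy₀ t) (fun g hg => ?_) (fun y hy hyp => ?_)
  · have hg' : (g : G) * ((y₀ ^ t : K) : G) * (g : G)⁻¹ ∈ (S : Subgroup G) := (mem_subSylow S hK.1).mp hg
    have e : (g : G) * ((y₀ ^ t : K) : G) * (g : G)⁻¹ = z ^ (i₀ * t) * ((g : G) * x * (g : G)⁻¹) := by
      calc (g : G) * ((y₀ ^ t : K) : G) * (g : G)⁻¹ = g * z ^ (i₀ * t) * x * (g : G)⁻¹ := by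
            rw [he, mul_assoc (g : G) (z ^ (i₀ * t)) x]
        _ = z ^ (i₀ * t) * g * x * (g : G)⁻¹ := by rw [(hKQ g g.2 _ (zpow_mem hzQ _)).eq]
        _ = _ := by group
    apply Subtype.ext
    show (g : G) * ((y₀ ^ t : K) : G) * (g : G)⁻¹ = ((y₀ ^ t : K) : G)
    rw [e, he]
    rw [e] at hg'
    rw [LocalStructure.eq_of_mem_of_isolated hiso S.2 hxS (g := (g : G)) (by
      have := mul_mem (inv_mem (zpow_mem (hQS hzQ) (i₀ * t))) hg'
      rwa [inv_mul_cancel_left] at this)]
  · obtain ⟨i, j, hij⟩ := hdec y hy hyp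
    refine ⟨j, ((y₀ ^ t) ^ j)⁻¹ * y, hcen _ ⟨i - i₀ * t * j, ?_⟩, by rw [mul_inv_cancel_left]⟩
    rw [Subgroup.coe_mul, Subgroup.coe_inv, SubgroupClass.coe_zpow, he, hij,
      ((hcxz.zpow_left (i₀ * t))).mul_zpow, ← zpow_mul, zpow_sub, mul_inv_rev,
      (hcxz.zpow_zpow i j).eq, ← mul_assoc, mul_assoc (x ^ j)⁻¹]
    rw [show (z ^ (i₀ * t * j))⁻¹ * x ^ j = x ^ j * (z ^ (i₀ * t * j))⁻¹ from
      ((hcxz.zpow_zpow (i₀ * t * j) j).inv_left).eq, ← mul_assoc, inv_mul_cancel, one_mul,
      ← zpow_neg, ← zpow_add, ← zpow_add]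
    congr 1
    ring

/-- There is exactly one component, and it is the generalized Fitting subgroup. -/
theorem exists_unique_component (hnc : x ∉ center G) :
    ∃ K : Subgroup G, Cfsg.IsComponent K ∧ Cfsg.generalizedFittingSubgroup G = K ∧
      K ⊓ centralizer (K : Set G) = ⊥ := by
  have hxp : x ^ p = 1 := by rw [← hx, pow_orderOf_eq_one]
  have hQ := pCore_eq_bot hp2 hcore hrank hx hiso hnc
  have hF : Cfsg.fittingSubgroup G = ⊥ := by
    rw [Layer.fitting_eq_pCore_of_pPrimeCore_eq_bot (p := p) hcore, hQ]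
  obtain ⟨S, hS⟩ := (LocalStructure.isPGroup_zpowers (p := p) (x := x) ⟨1, by rw [hx, pow_one]⟩).exists_le_sylow
  have hxS : x ∈ (S : Subgroup G) := hS (mem_zpowers x)
  have hxc : ∀ s ∈ (S : Subgroup G), Commute s x := fun s hs =>
    (mem_centralizer_iff.mp (LocalStructure.le_centralizer_of_isolated hiso S.2 hxS hs) x rfl).symm
  have huniq : ∀ K M : Subgroup G, Cfsg.IsComponent K → Cfsg.IsComponent M → K = M := by
    intro K M hK hM
    by_contra hne
    have hKM : ∀ u ∈ K, ∀ v ∈ M, Commute u v := fun u hu v hv =>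
      Layer.commute_of_commutator_eq_bot (Layer.components_commute hK hM hne) hu hv
    have hdisj : K ⊓ M = ⊥ := by
      rw [eq_bot_iff]
      intro w hw
      have h1 : w ∈ Cfsg.layer G ⊓ centralizer (Cfsg.layer G : Set G) := by
        refine ⟨Layer.component_le_layer hK hw.1, ?_⟩
        have hle : Cfsg.layer G ≤ centralizer ({w} : Set G) := sSup_le fun N hN u hu => by
          rw [mem_centralizer_singleton_iff]
          by_cases hNK : N = K
          · subst hNK
            exact (hKM u hu w hw.2).eq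
          · exact Layer.commute_of_commutator_eq_bot (Layer.components_commute hN hK hNK) hu hw.1
        exact mem_centralizer_iff.mpr fun u hu => mem_centralizer_singleton_iff.mp (hle hu)
      rw [Layer.center_layer_eq, hF, bot_inf_eq] at h1
      exact h1
    obtain ⟨a, haS, haK, hap, ha1⟩ := exists_orderP_mem S hK.1 (Layer.dvd_card_component hcore hK)
    obtain ⟨b, hbS, hbM, hbp, hb1⟩ := exists_orderP_mem S hM.1 (Layer.dvd_card_component hcore hM)
    have hab : b ∉ zpowers a := fun h => hb1 (by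
      have : b ∈ K ⊓ M := ⟨zpowers_le.mpr haK h, hbM⟩
      rwa [hdisj, mem_bot] at this)
    obtain ⟨i, j, hij⟩ := exists_eq_zpow_mul hrank hap hbp hxp ha1 hab (hKM a haK b hbM)
      (hxc a haS) (hxc b hbS)
    by_cases hai : a ^ i = 1
    · refine false_of_pair hp2 hcore hrank hiso hxS hM hK (Ne.symm hne) hbS hbM hbp hb1 haS haK hap ha1
        (by rw [inf_comm]; exact hdisj) (i := j) (j := i) ?_ ?_
      · rw [hij, ((hKM a haK b hbM).zpow_zpow i j).eq]
      · intro hbj
        rw [hai, hbj, one_mul] at hij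
        rw [hij, orderOf_one] at hx
        exact hp.out.one_lt.ne hx
    · exact false_of_pair hp2 hcore hrank hiso hxS hK hM hne haS haK hap ha1 hbS hbM hbp hb1 hdisj hij hai
  obtain ⟨K, hK⟩ : ∃ K, Cfsg.IsComponent K := by
    by_contra h
    push Not at h
    have h0 : Cfsg.layer G = ⊥ := Layer.layer_eq_bot_iff.mpr h
    have h1 := Layer.layer_eq_bot_iff_centralizer_fitting.mp h0
    rw [hF] at h1
    have hx1 : x = 1 := mem_bot.mp (h1 (mem_centralizer_iff.mpr fun q hq => by
      rw [SetLike.mem_coe, mem_bot] at hq; rw [hq, one_mul, mul_one]))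
    rw [hx1, orderOf_one] at hx
    exact hp.out.one_lt.ne hx
  have hlay : Cfsg.layer G = K := le_antisymm (sSup_le fun N hN => (huniq N K hN hK).le)
    (Layer.component_le_layer hK)
  refine ⟨K, hK, by rw [Cfsg.generalizedFittingSubgroup, hF, sup_bot_eq, hlay], ?_⟩
  rw [← hlay, Layer.center_layer_eq, hF, bot_inf_eq]

end Cfsg.Agent.IsolatedRankTwo
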