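import Mathlib.GroupTheory.SpecificGroups.Cyclic
import Mathlib.GroupTheory.PGroup
import Mathlib.Data.ZMod.Basic
import Mathlib.Algebra.Group.End

/-!
# Automorphisms of an elementary abelian group of order nine
-/

set_option autoImplicit false
set_option linter.all false

namespace Cfsg.Agent.IsolatedRankTwo.Plane

/-- The endomorphism with columns `(a, b)` and `(c, d)`. -/
def lin (a b c d : ZMod 3) (q : ZMod 3 × ZMod 3) : ZMod 3 × ZMod 3 :=
  (a * q.1 + c * q.2, b * q.1 + d * q.2)

set_option maxRecDepth 10000 in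
set_option synthInstance.maxSize 4096 in
set_option synthInstance.maxHeartbeats 400000 in
theorem lin_cases : ∀ a b c d : ZMod 3, (∀ q, lin a b c d q = 0 → q = 0) →
    (∀ q, lin a b c d (lin a b c d q) = q) ∨ (∀ q, lin a b c d (lin a b c d q) = -q) ∨
    (∀ q, lin a b c d (lin a b c d (lin a b c d (lin a b c d q))) = -q) ∨
    (∀ q, lin a b c d (lin a b c d (lin a b c d
      (lin a b c d (lin a b c d (lin a b c d q))))) = q) := by
  decide +kernel

set_option maxRecDepth 10000 in
set_option synthInstance.maxSize 4096 in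
set_option synthInstance.maxHeartbeats 400000 in
theorem lin_three : ∀ a b c d : ZMod 3, (∀ q, lin a b c d (lin a b c d (lin a b c d q)) = q) →
    (¬ ∀ q, lin a b c d q = q) →
    ∀ a' b' c' d' : ZMod 3, (∀ q, lin a' b' c' d' (lin a' b' c' d' (lin a' b' c' d' q)) = q) →
    (∀ q, lin a' b' c' d' q = q) ∨ (∀ q, lin a' b' c' d' q = lin a b c d q) ∨
    (∀ q, lin a' b' c' d' q = lin a b c d (lin a b c d q)) ∨
    (∀ q, lin a b c d (lin a' b' c' d' (lin a b c d (lin a' b' c' d' q))) = -q) ∨
    (∀ q, lin a b c d (lin a' b' c' d' (lin a' b' c' d'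
      (lin a b c d (lin a' b' c' d' (lin a' b' c' d' q))))) = -q) := by
  decide +kernel

set_option maxRecDepth 10000 in
set_option synthInstance.maxSize 4096 in
set_option synthInstance.maxHeartbeats 400000 in
theorem lin_two : ∀ a b c d : ZMod 3, (∀ q, lin a b c d (lin a b c d q) = q) →
    ∀ a' b' c' d' : ZMod 3, (∀ q, lin a' b' c' d' (lin a' b' c' d' q) = q) →
    (∀ q, lin a b c d (lin a' b' c' d' q) = lin a' b' c' d' (lin a b c d q)) →
    (∀ q, lin a b c d q = q) ∨ (∀ q, lin a' b' c' d' q = q) ∨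
    (∀ q, lin a' b' c' d' q = lin a b c d q) ∨ (∀ q, lin a b c d q = -q) ∨
    (∀ q, lin a' b' c' d' q = -q) ∨ (∀ q, lin a b c d (lin a' b' c' d' q) = -q) := by
  decide +kernel

set_option maxRecDepth 10000 in
theorem lin_nine : ∀ a b c d : ZMod 3, (∀ q, (lin a b c d)^[9] q = q) →
    ∀ q, (lin a b c d)^[3] q = q := by
  decide +kernel

variable {V : Type*} [Group V] [Finite V]

theorem exists_coords (hc : ∀ v w : V, v * w = w * v) (he : ∀ v : V, v ^ 3 = 1)
    (hV : Nat.card V = 9) :
    ∃ e : ZMod 3 × ZMod 3 ≃ V, ∀ q q', e (q + q') = e q * e q' := by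
  haveI : Fact (Nat.Prime 3) := ⟨Nat.prime_three⟩
  haveI : Nontrivial V := Finite.one_lt_card_iff_nontrivial.mp (by omega)
  obtain ⟨v, hv⟩ := exists_ne (1 : V)
  have hvo : orderOf v = 3 := orderOf_eq_prime (he v) hv
  obtain ⟨w, hw⟩ : ∃ w, w ∉ Subgroup.zpowers v := by
    by_contra h
    push Not at h
    have h1 : Subgroup.zpowers v = ⊤ := eq_top_iff.mpr fun y _ => h y
    have h2 := congrArg (fun H : Subgroup V => Nat.card H) h1
    simp only [Nat.card_zpowers, Subgroup.card_top, hvo] at h2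
    omega
  have hmod : ∀ (y : V) (i j : ℕ), i % 3 = j % 3 → y ^ i = y ^ j := by
    intro y i j h
    rw [← Nat.div_add_mod i 3, ← Nat.div_add_mod j 3, pow_add, pow_add, pow_mul, pow_mul, he,
      one_pow, one_pow, h]
  let f : ZMod 3 × ZMod 3 → V := fun q => v ^ q.1.val * w ^ q.2.val
  have hf : ∀ q q', f (q + q') = f q * f q' := by
    intro q q'
    show v ^ (q.1 + q'.1).val * w ^ (q.2 + q'.2).val = _
    rw [hmod v (q.1 + q'.1).val (q.1.val + q'.1.val) (by rw [ZMod.val_add, Nat.mod_mod]),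
      hmod w (q.2 + q'.2).val (q.2.val + q'.2.val) (by rw [ZMod.val_add, Nat.mod_mod]),
      pow_add, pow_add]
    show v ^ q.1.val * v ^ q'.1.val * (w ^ q.2.val * w ^ q'.2.val) =
      v ^ q.1.val * w ^ q.2.val * (v ^ q'.1.val * w ^ q'.2.val)
    rw [mul_assoc, ← mul_assoc (v ^ q'.1.val), hc (v ^ q'.1.val) (w ^ q.2.val)]
    simp [mul_assoc]
  have hker : ∀ q, f q = 1 → q = 0 := by
    rintro ⟨i, j⟩ h
    have hj : j = 0 := by
      by_contra hj
      have h1 : w ^ j.val ∈ Subgroup.zpowers v := by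
        rw [eq_inv_of_mul_eq_one_right (h : v ^ i.val * w ^ j.val = 1)]
        exact inv_mem (pow_mem (Subgroup.mem_zpowers v) _)
      have h2 := pow_mem h1 (j⁻¹).val
      rw [← pow_mul, hmod w (j.val * (j⁻¹).val) 1 (by
          exact (by decide +kernel : ∀ k : ZMod 3, k ≠ 0 → k.val * (k⁻¹).val % 3 = 1 % 3) j hj),
        pow_one] at h2
      exact hw h2
    subst hj
    have h1 : v ^ i.val = 1 := by simpa [f] using h
    have h2 := Nat.eq_zero_of_dvd_of_lt (orderOf_dvd_of_pow_eq_one h1)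
      (by rw [hvo]; exact ZMod.val_lt i)
    rw [ZMod.val_eq_zero] at h2
    simp [h2]
  have hinj : Function.Injective f := by
    intro q q' h
    have h0 : f 0 = 1 := by simp [f]
    have : f (q - q') * f q' = 1 * f q' := by rw [← hf, sub_add_cancel, one_mul, h]
    exact sub_eq_zero.mp (hker _ (mul_right_cancel this))
  have hbij := (Nat.bijective_iff_injective_and_card f).mpr ⟨hinj, by simp [hV, Nat.card_prod]⟩
  exact ⟨Equiv.ofBijective f hbij, hf⟩

section Coords

variable (e : ZMod 3 × ZMod 3 ≃ V)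

/-- An automorphism read in coordinates. -/
def read (γ : MulAut V) (q : ZMod 3 × ZMod 3) : ZMod 3 × ZMod 3 := e.symm (γ (e q))

variable (he : ∀ q q', e (q + q') = e q * e q')
include he

theorem e_zero : e 0 = 1 := by
  have h := he 0 0
  rw [add_zero] at h
  exact left_eq_mul.mp h

theorem e_neg (q : ZMod 3 × ZMod 3) : e (-q) = (e q)⁻¹ :=
  eq_inv_of_mul_eq_one_left (by rw [← he, neg_add_cancel, e_zero e he])

theorem read_add (γ : MulAut V) (q q' : ZMod 3 × ZMod 3) :
    read e γ (q + q') = read e γ q + read e γ q' := by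
  apply e.injective
  simp [read, he, map_mul]

theorem exists_lin (γ : MulAut V) : ∃ a b c d, read e γ = lin a b c d := by
  let F : ZMod 3 × ZMod 3 →+ ZMod 3 × ZMod 3 := AddMonoidHom.mk' (read e γ) (read_add e he γ)
  refine ⟨(read e γ (1, 0)).1, (read e γ (1, 0)).2, (read e γ (0, 1)).1, (read e γ (0, 1)).2, ?_⟩
  funext q
  have h : ((q.1.val • ((1 : ZMod 3), (0 : ZMod 3)) + q.2.val • ((0 : ZMod 3), (1 : ZMod 3)))) = q := by
    apply Prod.ext <;> simp
  conv_lhs => rw [← h]
  show F _ = _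
  rw [map_add, map_nsmul, map_nsmul]
  apply Prod.ext <;> simp [lin, F, mul_comm]

theorem read_eq_neg {γ : MulAut V} (h : ∀ q, read e γ q = -q) (v : V) : γ v = v⁻¹ := by
  have h1 := congrArg e (h (e.symm v))
  simpa [read, e_neg e he] using h1

omit he

theorem read_eq_id {γ η : MulAut V} (h : ∀ q, read e γ q = read e η q) : γ = η := by
  apply MulEquiv.ext
  intro v
  have h1 := congrArg e (h (e.symm v))
  simpa [read] using h1

theorem read_mul (γ η : MulAut V) (q : ZMod 3 × ZMod 3) :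
    read e (γ * η) q = read e γ (read e η q) := by
  simp [read, MulAut.mul_apply]

theorem read_one (q : ZMod 3 × ZMod 3) : read e (1 : MulAut V) q = q := by simp [read]

end Coords

variable (hc : ∀ v w : V, v * w = w * v) (he : ∀ v : V, v ^ 3 = 1) (hV : Nat.card V = 9)
include hc he hV

/-- An automorphism of three-power order has cube one. -/
theorem cube_eq_one (γ : MulAut V) {k : ℕ} (hγ : γ ^ 3 ^ k = 1) : γ ^ 3 = 1 := by
  obtain ⟨e, hadd⟩ := exists_coords hc he hV
  have key : ∀ μ : MulAut V, μ ^ 9 = 1 → μ ^ 3 = 1 := by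
    intro μ hμ
    obtain ⟨a, b, c, d, hl⟩ := exists_lin e hadd μ
    have hpow : ∀ n q, read e (μ ^ n) q = (lin a b c d)^[n] q := by
      intro n
      induction n with
      | zero => intro q; simp [read_one]
      | succ n ih => intro q; rw [pow_succ', read_mul, ih, hl, Function.iterate_succ_apply']
    refine read_eq_id e fun q => ?_
    rw [read_one, hpow]
    exact lin_nine a b c d (fun q => by rw [← hpow, hμ, read_one]) q
  have step : ∀ j, γ ^ 3 ^ (j + 1) = 1 → γ ^ 3 = 1 := by
    intro j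
    induction j with
    | zero => intro h; rwa [zero_add, pow_one] at h
    | succ j ih =>
      intro h
      refine ih ?_
      rw [pow_succ 3 j, pow_mul]
      exact key (γ ^ 3 ^ j) (by rw [← pow_mul, show 3 ^ j * 9 = 3 ^ (j + 1 + 1) by ring]; exact h)
  rcases k with _ | k
  · rw [pow_zero, pow_one] at hγ
    rw [hγ, one_pow]
  · exact step k hγ

/-- An automorphism of order prime to three is an involution or has `-1` among its powers. -/
theorem sq_or_neg (γ : MulAut V) (hγ : (orderOf γ).Coprime 3) :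
    γ ^ 2 = 1 ∨ ∃ k : ℕ, ∀ v, (γ ^ k) v = v⁻¹ := by
  obtain ⟨e, hadd⟩ := exists_coords hc he hV
  obtain ⟨a, b, c, d, hl⟩ := exists_lin e hadd γ
  have hinj : ∀ q, lin a b c d q = 0 → q = 0 := by
    intro q hq
    rw [← hl] at hq
    apply e.injective
    rw [e_zero e hadd]
    have := congrArg e hq
    simpa [read, e_zero e hadd] using this
  have hpow : ∀ n q, read e (γ ^ n) q = (lin a b c d)^[n] q := by
    intro n
    induction n with
    | zero => intro q; simp [read_one]
    | succ n ih => intro q; rw [pow_succ', read_mul, ih, hl, Function.iterate_succ_apply']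
  rcases lin_cases a b c d hinj with h | h | h | h
  · exact Or.inl (read_eq_id e fun q => by rw [read_one, hpow]; exact h q)
  · exact Or.inr ⟨2, read_eq_neg e hadd fun q => by rw [hpow]; exact h q⟩
  · exact Or.inr ⟨4, read_eq_neg e hadd fun q => by rw [hpow]; exact h q⟩
  · refine Or.inl (orderOf_dvd_iff_pow_eq_one.mp ?_)
    have h6 : γ ^ 6 = 1 := read_eq_id e fun q => by rw [read_one, hpow]; exact h q
    exact Nat.Coprime.dvd_of_dvd_mul_right hγ (show orderOf γ ∣ 2 * 3 from orderOf_dvd_of_pow_eq_one h6)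

/-- Two automorphisms of order three: the second is a power of the first, or they yield `-1`. -/
theorem three_cases (γ η : MulAut V) (hγ : γ ^ 3 = 1) (hγ1 : γ ≠ 1) (hη : η ^ 3 = 1) :
    η = 1 ∨ η = γ ∨ η = γ ^ 2 ∨ (∀ v, ((γ * η) ^ 2) v = v⁻¹) ∨
      ∀ v, ((γ * η ^ 2) ^ 2) v = v⁻¹ := by
  obtain ⟨e, hadd⟩ := exists_coords hc he hV
  obtain ⟨a, b, c, d, hl⟩ := exists_lin e hadd γ
  obtain ⟨a', b', c', d', hl'⟩ := exists_lin e hadd η
  have hcube : ∀ (μ : MulAut V) (q), μ ^ 3 = 1 → read e μ (read e μ (read e μ q)) = q := by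
    intro μ q h
    rw [← read_mul, ← read_mul, show μ * μ * μ = μ ^ 3 by simp [pow_succ], h, read_one]
  rcases lin_three a b c d (fun q => by rw [← hl]; exact hcube γ q hγ)
      (fun h => hγ1 (read_eq_id e fun q => by rw [read_one, hl]; exact h q)) a' b' c' d'
      (fun q => by rw [← hl']; exact hcube η q hη) with h | h | h | h | h
  · exact Or.inl (read_eq_id e fun q => by rw [read_one, hl']; exact h q)
  · exact Or.inr (Or.inl (read_eq_id e fun q => by rw [hl, hl']; exact h q))
  · exact Or.inr (Or.inr (Or.inl (read_eq_id e fun q => by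
      rw [pow_two, read_mul, hl, hl']; exact h q)))
  · exact Or.inr (Or.inr (Or.inr (Or.inl (read_eq_neg e hadd fun q => by
      simp only [pow_two, read_mul, hl, hl']; exact h q))))
  · exact Or.inr (Or.inr (Or.inr (Or.inr (read_eq_neg e hadd fun q => by
      simp only [pow_two, read_mul, hl, hl']; exact h q))))

/-- A group of automorphisms of order prime to three with `[V, Γ] = V` contains `-1`. -/
theorem exists_neg (Γ : Subgroup (MulAut V)) (hΓ : ∀ γ ∈ Γ, (orderOf γ).Coprime 3)
    (hgen : Subgroup.closure {u : V | ∃ v : V, ∃ γ ∈ Γ, u = v⁻¹ * γ v} = ⊤) :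
    ∃ γ ∈ Γ, ∀ v, γ v = v⁻¹ := by
  by_contra hno
  push Not at hno
  have hsq : ∀ γ ∈ Γ, γ ^ 2 = 1 := by
    intro γ hγ
    rcases sq_or_neg hc he hV γ (hΓ γ hγ) with h | ⟨k, hk⟩
    · exact h
    · obtain ⟨v, hv⟩ := hno _ (pow_mem hγ k)
      exact absurd (hk v) hv
  obtain ⟨r, hr, hr2⟩ : ∃ r ∈ Γ, ∀ γ ∈ Γ, γ = 1 ∨ γ = r := by
    by_cases h1 : ∀ γ ∈ Γ, γ = 1
    · exact ⟨1, one_mem _, fun γ hγ => Or.inl (h1 γ hγ)⟩
    push Not at h1
    obtain ⟨r, hr, hr1⟩ := h1
    refine ⟨r, hr, fun γ hγ => ?_⟩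
    obtain ⟨e, hadd⟩ := exists_coords hc he hV
    obtain ⟨a, b, c, d, hl⟩ := exists_lin e hadd r
    obtain ⟨a', b', c', d', hl'⟩ := exists_lin e hadd γ
    have hcomm : r * γ = γ * r := by
      have h3 := hsq _ (mul_mem hr hγ)
      rw [pow_two, mul_eq_one_iff_eq_inv, mul_inv_rev,
        inv_eq_of_mul_eq_one_right (by rw [← pow_two]; exact hsq γ hγ),
        inv_eq_of_mul_eq_one_right (by rw [← pow_two]; exact hsq r hr)] at h3
      exact h3
    have hrd : ∀ μ ∈ Γ, ∀ q, read e μ (read e μ q) = q := fun μ hμ q => by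
      rw [← read_mul, ← pow_two, hsq μ hμ, read_one]
    have hneg : ∀ μ ∈ Γ, ¬ ∀ q, read e μ q = -q := fun μ hμ hμq => by
      obtain ⟨v, hv⟩ := hno μ hμ
      exact hv (read_eq_neg e hadd hμq v)
    rcases lin_two a b c d (fun q => by rw [← hl]; exact hrd r hr q) a' b' c' d'
        (fun q => by rw [← hl']; exact hrd γ hγ q)
        (fun q => by rw [← hl, ← hl', ← read_mul, ← read_mul, hcomm]) with h | h | h | h | h | h
    · exact absurd (read_eq_id e fun q => by rw [read_one, hl]; exact h q) hr1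
    · exact Or.inl (read_eq_id e fun q => by rw [read_one, hl']; exact h q)
    · exact Or.inr (read_eq_id e fun q => by rw [hl, hl']; exact h q)
    · exact absurd (fun q => by rw [hl]; exact h q) (hneg r hr)
    · exact absurd (fun q => by rw [hl']; exact h q) (hneg γ hγ)
    · exact absurd (fun q => by rw [read_mul, hl, hl']; exact h q) (hneg _ (mul_mem hr hγ))
  let ψ : V →* V := MonoidHom.mk' (fun v => v⁻¹ * r v) fun v w => by
    rw [map_mul, mul_inv_rev, hc w⁻¹ v⁻¹]
    simp only [mul_assoc]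
    rw [← mul_assoc w⁻¹ (r v), hc w⁻¹ (r v)]
    simp only [mul_assoc]
  have hsurj : Function.Surjective ψ := by
    rw [← MonoidHom.range_eq_top, eq_top_iff, ← hgen, Subgroup.closure_le]
    rintro _ ⟨v, γ, hγ, rfl⟩
    rcases hr2 γ hγ with rfl | rfl
    · exact ⟨1, by simp⟩
    · exact ⟨v, rfl⟩
  have hinj := Finite.injective_iff_surjective.mpr hsurj
  obtain ⟨v, hv⟩ := hno r hr
  refine hv (eq_inv_of_mul_eq_one_left (hinj ?_))
  show (r v * v)⁻¹ * r (r v * v) = ψ 1
  rw [map_one, map_mul, ← MulAut.mul_apply, ← pow_two, hsq r hr, MulAut.one_apply, hc (r v) v,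
    inv_mul_cancel]

end Cfsg.Agent.IsolatedRankTwo.Plane
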