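import Cfsg.Agent.IsolatedRankTwo.Metacyclic
import Cfsg.Agent.IsolatedRankTwo.Plane

/-!
# The exceptional members of the family for `p = 3`

When a subgroup of order `27` and exponent `3` through `x` is never centralized modulo `⟨x⟩` by a
bigger `3`-subgroup, the members `D ≠ P` of the family have order `27`. Some element of `N(D)`
inverts `D` modulo `⟨x⟩`; it can be moved into `N(P)`, so that `P = [P, N(P)]`.
-/

set_option autoImplicit false
set_option linter.all false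

namespace Cfsg.Agent.IsolatedRankTwo

open Subgroup Cfsg.Agent.Fusion
open scoped commutatorElement

universe u

variable {L : Type u} [Group L] [Finite L] [hp : Fact (Nat.Prime 3)] {P : Sylow 3 L} {x : L}

/-- No subgroup of `P` properly above such a `W` centralizes it modulo `⟨x⟩`. -/
def Small (P : Sylow 3 L) (x : L) : Prop :=
  ∀ R W : Subgroup L, R ≤ (P : Subgroup L) → W ≤ R → Nat.card W = 27 → (∀ w ∈ W, w ^ 3 = 1) →
    (∀ r ∈ R, ∀ w ∈ W, ⁅r, w⁆ ∈ zpowers x) → R = W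

omit [Finite L] hp in
theorem conj_mem_pClosure {N : Subgroup L} {n : L} (hn : n ∈ N) {g : L}
    (hg : g ∈ closure {s | s ∈ N ∧ ∃ k, orderOf s ∣ 3 ^ k}) :
    n * g * n⁻¹ ∈ closure {s | s ∈ N ∧ ∃ k, orderOf s ∣ 3 ^ k} := by
  induction hg using closure_induction with
  | mem s hs =>
    refine subset_closure ⟨mul_mem (mul_mem hn hs.1) (inv_mem hn), ?_⟩
    obtain ⟨k, hk⟩ := hs.2
    exact ⟨k, by rwa [show n * s * n⁻¹ = MulAut.conj n s from rfl, MulEquiv.orderOf_eq]⟩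
  | one => rw [mul_one, mul_inv_cancel]; exact one_mem _
  | mul a b _ _ iha ihb => rw [← conj_mul]; exact mul_mem iha ihb
  | inv a _ iha =>
    rw [show n * a⁻¹ * n⁻¹ = (n * a * n⁻¹)⁻¹ by group]
    exact inv_mem iha

namespace Ctx

variable (C : Ctx 3 P x)
include C

theorem small_conj (hs : Small P x) {R W : Subgroup L} (hR : IsPGroup 3 R) (hxR : x ∈ R)
    (hWR : W ≤ R) (hWc : Nat.card W = 27) (hWe : ∀ w ∈ W, w ^ 3 = 1)
    (hcm : ∀ r ∈ R, ∀ w ∈ W, ⁅r, w⁆ ∈ zpowers x) : R = W := by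
  obtain ⟨y, hyx, hy⟩ := C.exists_into hR hxR
  set c : L ≃* L := MulAut.conj y with hc
  have hmap : R.map c.toMonoidHom = W.map c.toMonoidHom := by
    refine hs _ _ ?_ (map_mono hWR) ?_ ?_ ?_
    · rintro _ ⟨r, hr, rfl⟩
      exact hy r hr
    · rw [card_map_of_injective c.injective, hWc]
    · rintro _ ⟨w, hw, rfl⟩
      rw [← map_pow, hWe w hw, map_one]
    · rintro _ ⟨r, hr, rfl⟩ _ ⟨w, hw, rfl⟩
      rw [← map_commutatorElement]
      obtain ⟨i, hi⟩ := mem_zpowers_iff.mp (hcm r hr w hw)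
      refine ⟨i, ?_⟩
      show x ^ i = c.toMonoidHom ⁅r, w⁆
      rw [← hi, map_zpow, show c.toMonoidHom x = x from hyx]
  exact map_injective c.injective hmap

theorem nu_of_large (hs : Small P x) {R : Subgroup L} (hR : IsPGroup 3 R) (hxR : x ∈ R)
    (h27 : 27 < Nat.card R) :
    ∀ g ∈ closure {s | s ∈ normalizer (R : Set L) ∧ ∃ k, orderOf s ∣ 3 ^ k},
      (orderOf g).Coprime 3 → g ∈ centralizer (R : Set L) := by
  rcases C.radical hR hxR with h | ⟨W, hWR, hWc, hWe, -, -, hcm⟩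
  · exact h
  · have h1 := C.small_conj hs hR hxR hWR (hWc.trans (by norm_num)) hWe hcm
    rw [h1, hWc] at h27
    norm_num at h27

/-- A member of the family other than `P` has order `27` and exponent three. -/
theorem gCond_cases (hs : Small P x) {D : Subgroup L} (hD : GCond P D)
    (hne : D ≠ (P : Subgroup L)) :
    Nat.card D = 27 ∧ (∀ w ∈ D, w ^ 3 = 1) ∧ ∀ a ∈ D, ∀ b ∈ D, ⁅a, b⁆ ∈ zpowers x := by
  have hDp := P.2.to_le hD.le
  rcases C.radical hDp (C.mem_gCond hD) with h | ⟨W, hWR, hWc, hWe, -, -, hcm⟩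
  · exact absurd (C.eq_of_gCond hD h) hne
  · have h1 := C.small_conj hs hDp (C.mem_gCond hD) hWR (hWc.trans (by norm_num)) hWe hcm
    rw [← h1] at hWc hWe hcm
    exact ⟨hWc.trans (by norm_num), hWe, hcm⟩

/-- In `N(D)` some element inverts `D` modulo `⟨x⟩` and normalizes a larger `3`-subgroup. -/
theorem exists_inverting (hs : Small P x) {D : Subgroup L} (hD : GCond P D)
    (hne : D ≠ (P : Subgroup L)) :
    ∃ T : Subgroup L, T ≤ (P : Subgroup L) ∧ D ≤ T ∧ 27 < Nat.card T ∧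
      ∃ τ ∈ normalizer (T : Set L), ∀ w ∈ D, τ * w * τ⁻¹ * w ∈ zpowers x := by
  classical
  obtain ⟨hDc, hDe, hDd⟩ := C.gCond_cases hs hD hne
  have hDp := P.2.to_le hD.le
  have hxD := C.mem_gCond hD
  set N := normalizer (D : Set L) with hN
  set T := (P : Subgroup L) ⊓ N with hT
  have hDT : D < T := lt_inf_normalizer_of_isPGroup P.2 (lt_of_le_of_ne hD.le hne)
  have hTp : IsPGroup 3 T := P.2.to_le inf_le_left
  have hT27 : 27 < Nat.card T := by
    rw [← hDc]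
    exact lt_of_le_of_ne (card_le_of_le hDT.le) fun h => hDT.ne (eq_of_le_of_card_ge hDT.le h.ge)
  set X := (zpowers x).subgroupOf D with hX
  haveI hXn : X.Normal := by
    refine ⟨fun a ha b => ?_⟩
    obtain ⟨i, hi⟩ := mem_zpowers_iff.mp (mem_subgroupOf.mp ha)
    rw [hX, mem_subgroupOf, Subgroup.coe_mul, Subgroup.coe_mul, Subgroup.coe_inv, ← hi,
      ((C.comm' hDp hxD b.2).zpow_right i).eq, mul_inv_cancel_right]
    exact zpow_mem (mem_zpowers x) i
  have hXc : Nat.card X = 3 := by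
    rw [hX, Nat.card_congr (subgroupOfEquivOfLe (zpowers_le.mpr hxD)).toEquiv, Nat.card_zpowers, C.ord]
  have hV : Nat.card (D ⧸ X) = 9 := by
    have h := X.card_eq_card_quotient_mul_card_subgroup
    rw [hDc, hXc] at h
    omega
  have hVe : ∀ v : D ⧸ X, v ^ 3 = 1 := fun v => by
    induction v using QuotientGroup.induction_on with
    | H w => rw [← QuotientGroup.mk_pow, show w ^ 3 = 1 from Subtype.ext (by simpa using hDe w w.2),
      QuotientGroup.mk_one]
  have hVc : ∀ v w : D ⧸ X, v * w = w * v := fun v w => by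
    induction v using QuotientGroup.induction_on with
    | H a => induction w using QuotientGroup.induction_on with
      | H b =>
        refine commutatorElement_eq_one_iff_mul_comm.mp ?_
        rw [← QuotientGroup.mk'_apply, ← QuotientGroup.mk'_apply, ← map_commutatorElement,
          QuotientGroup.mk'_apply, QuotientGroup.eq_one_iff, hX, mem_subgroupOf]
        exact hDd a a.2 b b.2
  have hXmap : ∀ n : N, X.map (D.normalizerMonoidHom n : D ≃* D).toMonoidHom = X := by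
    intro n
    refine eq_of_le_of_card_ge ?_ (card_map_of_injective (MulEquiv.injective _)).ge
    rintro _ ⟨a, ha, rfl⟩
    obtain ⟨i, hi⟩ := mem_zpowers_iff.mp (mem_subgroupOf.mp ha)
    rw [hX, mem_subgroupOf]
    show (n : L) * a * (n : L)⁻¹ ∈ zpowers x
    rw [← hi, ← conj_zpow, C.fix hDp hxD n.2]
    exact zpow_mem (mem_zpowers x) i
  obtain ⟨ρ, hρ⟩ : ∃ ρ : N →* MulAut (D ⧸ X), ∀ n w,
      ρ n (QuotientGroup.mk w) = QuotientGroup.mk (D.normalizerMonoidHom n w) :=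
    ⟨MonoidHom.mk' (fun n => QuotientGroup.congr X X (D.normalizerMonoidHom n) (hXmap n)) (fun a b => by
      apply MulEquiv.ext
      intro v
      induction v using QuotientGroup.induction_on with
      | H w =>
        show QuotientGroup.mk (D.normalizerMonoidHom (a * b) w) =
          QuotientGroup.mk (D.normalizerMonoidHom a (D.normalizerMonoidHom b w))
        rw [map_mul, MulAut.mul_apply]), fun n w => rfl⟩
  have hone : ∀ n : N, ρ n = 1 → ∀ w ∈ D, ⁅(n : L), w⁆ ∈ zpowers x := by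
    intro n hn w hw
    have h1 : QuotientGroup.mk (s := X) (D.normalizerMonoidHom n ⟨w, hw⟩) =
        QuotientGroup.mk ⟨w, hw⟩ := by rw [← hρ, hn, MulAut.one_apply]
    rw [← div_eq_one, ← QuotientGroup.mk_div, QuotientGroup.eq_one_iff] at h1
    have h2 := mem_subgroupOf.mp h1
    rw [commutatorElement_def]
    simpa [div_eq_mul_inv] using h2
  have hneg : ∀ n : N, (∀ v, ρ n v = v⁻¹) → ∀ w ∈ D, (n : L) * w * (n : L)⁻¹ * w ∈ zpowers x := by
    intro n hn w hw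
    have h1 : QuotientGroup.mk (s := X) (D.normalizerMonoidHom n ⟨w, hw⟩) =
        (QuotientGroup.mk ⟨w, hw⟩)⁻¹ := by rw [← hρ]; exact hn _
    rw [eq_inv_iff_mul_eq_one, ← QuotientGroup.mk_mul, QuotientGroup.eq_one_iff] at h1
    simpa using mem_subgroupOf.mp h1
  have hcube : ∀ t : L, ∀ ht : t ∈ T, ρ ⟨t, ht.2⟩ ^ 3 = 1 := by
    intro t ht
    obtain ⟨k, hk⟩ := orderOf_dvd_of_mem P.2 ht.1
    refine Plane.cube_eq_one hVc hVe hV _ (k := k) ?_
    rw [← map_pow, show (⟨t, ht.2⟩ : N) ^ 3 ^ k = 1 from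
      Subtype.ext (by simpa using orderOf_dvd_iff_pow_eq_one.mp hk), map_one]
  -- some element of `T` moves `D` modulo `⟨x⟩`
  obtain ⟨t₀, ht₀, hγ1⟩ : ∃ t : L, ∃ ht : t ∈ T, ρ ⟨t, ht.2⟩ ≠ 1 := by
    by_contra hall
    push Not at hall
    have h1 := C.small_conj hs hTp (hDT.le hxD) hDT.le hDc hDe
      (fun t ht w hw => hone ⟨t, ht.2⟩ (hall t ht) w hw)
    exact hDT.ne h1.symm
  set n₀ : N := ⟨t₀, ht₀.2⟩ with hn₀
  set γ := ρ n₀ with hγ
  have hγ3 : γ ^ 3 = 1 := hcube t₀ ht₀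
  have hnot : ∀ μ : MulAut (D ⧸ X), (∀ v, μ v = v⁻¹) → μ ≠ 1 := by
    intro μ hμ hμ1
    haveI : Nontrivial (D ⧸ X) := Finite.one_lt_card_iff_nontrivial.mp (by omega)
    obtain ⟨v, hv⟩ := exists_ne (1 : D ⧸ X)
    have h1 : v = v⁻¹ := by have := hμ v; rwa [hμ1, MulAut.one_apply] at this
    refine hv ?_
    have h2 : v ^ 2 = 1 := by rw [pow_two]; exact mul_eq_one_iff_eq_inv.mpr h1
    have h3 := hVe v
    rw [pow_succ, h2, one_mul] at h3
    exact h3
  have hTim : ∀ t : L, ∀ ht : t ∈ T, ρ ⟨t, ht.2⟩ ∈ zpowers γ := by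
    intro t ht
    set η := ρ ⟨t, ht.2⟩ with hη
    have hsq : ∀ m : N, (m : L) ∈ T → (∀ v, ((ρ m) ^ 2) v = v⁻¹) → False := by
      intro m hm hmv
      have h1 : ρ (m ^ 2) = ρ m ^ 2 := map_pow _ _ _
      have h2 : ((ρ m) ^ 2) ^ 3 = 1 := by
        rw [← h1, show m ^ 2 = ⟨(m : L) ^ 2, (pow_mem hm 2 : (m : L) ^ 2 ∈ T).2⟩ from Subtype.ext (by simp)]
        exact hcube _ (pow_mem hm 2)
      refine hnot _ hmv ?_
      apply MulEquiv.ext
      intro v
      have h3 := DFunLike.congr_fun h2 v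
      rw [MulAut.one_apply, show ((ρ m) ^ 2) ^ 3 = (ρ m) ^ 2 * ((ρ m) ^ 2 * (ρ m) ^ 2) by group,
        MulAut.mul_apply, MulAut.mul_apply, hmv, hmv, hmv, inv_inv] at h3
      rw [MulAut.one_apply, hmv]
      exact h3
    rcases Plane.three_cases hVc hVe hV γ η hγ3 hγ1 (hcube t ht) with h | h | h | h | h
    · rw [h]; exact one_mem _
    · rw [h]; exact mem_zpowers γ
    · rw [h]; exact pow_mem (mem_zpowers γ) 2
    · exact (hsq (n₀ * ⟨t, ht.2⟩) (mul_mem ht₀ ht) (by rw [map_mul]; exact h)).elim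
    · exact (hsq (n₀ * ⟨t, ht.2⟩ ^ 2) (mul_mem ht₀ (pow_mem ht 2))
        (by rw [map_mul, map_pow]; exact h)).elim
  -- the preimage of `⟨γ⟩`
  set M := ((zpowers γ).comap ρ).map N.subtype with hM
  have hMmem : ∀ m : L, m ∈ M ↔ ∃ hm : m ∈ N, ρ ⟨m, hm⟩ ∈ zpowers γ := by
    intro m
    constructor
    · rintro ⟨a, ha, rfl⟩
      exact ⟨a.2, ha⟩
    · rintro ⟨hm, h⟩
      exact ⟨⟨m, hm⟩, h, rfl⟩
  have hTM : T ≤ M := fun t ht => (hMmem t).mpr ⟨ht.2, hTim t ht⟩
  -- some element of `N(D)` acts as `-1`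
  obtain ⟨τ₀, hτ₀⟩ : ∃ τ₀ : N, ∀ v, ρ τ₀ v = v⁻¹ := by
    by_contra hno
    have hnorm : ∀ n : N, ρ (n * n₀ * n⁻¹) ∈ zpowers γ := by
      intro n
      have h3 : ρ (n * n₀ * n⁻¹) ^ 3 = 1 := by
        rw [← map_pow, conj_pow, map_mul, map_mul, map_pow, ← hγ, hγ3, mul_one, ← map_mul,
          mul_inv_cancel, map_one]
      rcases Plane.three_cases hVc hVe hV γ _ hγ3 hγ1 h3 with h | h | h | h | h
      · rw [h]; exact one_mem _
      · rw [h]; exact mem_zpowers γ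
      · rw [h]; exact pow_mem (mem_zpowers γ) 2
      · exact absurd ⟨(n₀ * (n * n₀ * n⁻¹)) ^ 2, by rw [map_pow, map_mul]; exact h⟩ hno
      · exact absurd ⟨(n₀ * (n * n₀ * n⁻¹) ^ 2) ^ 2,
          by rw [map_pow, map_mul, map_pow ρ (n * n₀ * n⁻¹)]; exact h⟩ hno
    obtain ⟨t, ht, htD⟩ := SetLike.exists_of_lt hDT
    refine htD (mem_of_nu hD (map_subtype_le _) ?_ ?_ (hTM ht) ht.1)
    · intro n hn g hg
      obtain ⟨hgN, hgγ⟩ := (hMmem g).mp hg
      refine (hMmem _).mpr ⟨mul_mem (mul_mem hn hgN) (inv_mem hn), ?_⟩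
      obtain ⟨i, hi⟩ := mem_zpowers_iff.mp hgγ
      show ρ (⟨n, hn⟩ * ⟨g, hgN⟩ * (⟨n, hn⟩ : N)⁻¹) ∈ zpowers γ
      rw [map_mul, map_mul, map_inv, ← hi, ← conj_zpow]
      refine zpow_mem ?_ i
      rw [hγ, ← map_inv, ← map_mul, ← map_mul]
      exact hnorm ⟨n, hn⟩
    · intro g hg hgo
      obtain ⟨hgN, hgγ⟩ := (hMmem g).mp hg
      have h1 : ρ ⟨g, hgN⟩ = 1 := by
        refine eq_one_of_pElement_coprime (p := 3) ⟨1, ?_⟩
          (hgo.coprime_dvd_left ((orderOf_map_dvd ρ _).trans (by rw [orderOf_mk])))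
        obtain ⟨i, hi⟩ := mem_zpowers_iff.mp hgγ
        rw [pow_one, orderOf_dvd_iff_pow_eq_one, ← hi, ← zpow_natCast, ← zpow_mul, Int.mul_comm,
          zpow_mul, zpow_natCast, hγ3, one_zpow]
      rw [mem_centralizer_iff]
      intro w hw
      obtain ⟨i, hi⟩ := mem_zpowers_iff.mp (hone ⟨g, hgN⟩ h1 w hw)
      set z := x ^ i with hz
      have h2 : g * w * g⁻¹ = z * w := by rw [hi, commutatorElement_def]; group
      have h4 : g * z * g⁻¹ = z := by rw [hz, ← conj_zpow, C.fix hDp hxD hgN]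
      have h3 : ∀ k : ℕ, g ^ k * w * (g ^ k)⁻¹ = z ^ k * w := by
        intro k
        induction k with
        | zero => simp
        | succ k ih =>
          calc g ^ (k + 1) * w * (g ^ (k + 1))⁻¹ = g * (g ^ k * w * (g ^ k)⁻¹) * g⁻¹ := by
                rw [pow_succ']; group
            _ = (g * z * g⁻¹) ^ k * (g * w * g⁻¹) := by rw [ih, conj_pow]; group
            _ = z ^ (k + 1) * w := by rw [h4, h2, pow_succ, mul_assoc]
      have h5 := h3 (orderOf g)
      rw [pow_orderOf_eq_one, one_mul, inv_one, mul_one] at h5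
      have h6 : z = 1 := eq_one_of_pElement_coprime (p := 3)
        (orderOf_dvd_of_mem hDp (zpow_mem hxD i))
        (hgo.coprime_dvd_left (orderOf_dvd_of_pow_eq_one (right_eq_mul.mp h5)))
      rw [h6, one_mul] at h2
      exact (mul_inv_eq_iff_eq_mul.mp h2).symm
  -- move it into the normalizer of `T`
  have hcentral : ∀ μ : MulAut (D ⧸ X), ρ τ₀ * μ = μ * ρ τ₀ := fun μ => by
    apply MulEquiv.ext
    intro v
    rw [MulAut.mul_apply, MulAut.mul_apply, hτ₀, hτ₀, map_inv]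
  have hTidx : ¬ 3 ∣ T.relIndex M := fun h => hD.sylow (h.trans
    (relIndex_mul_relIndex T M N hTM (map_subtype_le _) ▸ dvd_mul_right _ _))
  have hTconj : conjSub (τ₀ : L)⁻¹ T ≤ M := by
    intro a ha
    rw [mem_conjSub, inv_inv] at ha
    obtain ⟨haN, haγ⟩ := (hMmem _).mp (hTM ha)
    have haN' : a ∈ N := by
      have := mul_mem (mul_mem τ₀.2 haN) (inv_mem τ₀.2)
      simpa [mul_assoc] using this
    refine (hMmem a).mpr ⟨haN', ?_⟩
    rw [show (⟨a, haN'⟩ : N) = τ₀ * ⟨_, haN⟩ * τ₀⁻¹ from Subtype.ext (by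
      simp only [Subgroup.coe_mul, Subgroup.coe_inv]; group), map_mul, map_mul, hcentral,
      mul_assoc, ← map_mul, mul_inv_cancel, map_one, mul_one]
    exact haγ
  obtain ⟨m, hmM, hm⟩ := exists_conjSub_le_of_not_dvd_relIndex hTM hTp hTidx hTconj
    (isPGroup_conjSub hTp)
  obtain ⟨hmN, hmγ⟩ := (hMmem m).mp hmM
  obtain ⟨i, hi⟩ := mem_zpowers_iff.mp hmγ
  refine ⟨T, inf_le_left, hDT.le, hT27, t₀ ^ i * (m⁻¹ * τ₀), ?_, fun w hw => ?_⟩
  · refine mul_mem (Subgroup.le_normalizer (zpow_mem ht₀ i)) ?_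
    rw [conjSub_conjSub] at hm
    have h1 := eq_of_le_of_card_ge hm (card_conjSub _ T).ge
    have h2 := mem_normalizer_of_conjSub_eq h1
    have h3 := inv_mem h2
    rwa [mul_inv_rev, inv_inv] at h3
  · have := hneg (n₀ ^ i * ((⟨m, hmN⟩ : N)⁻¹ * τ₀)) (fun v => ?_) w hw
    · simpa using this
    · rw [map_mul, map_mul, map_zpow, map_inv, ← hγ, hi, mul_inv_cancel_left, hτ₀]

/-- One step up: a `3`-subgroup with an inverting element in its normalizer lies below a Sylow one. -/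
theorem climb (hs : Small P x) {D : Subgroup L} (hxD : x ∈ D) :
    ∀ (n : ℕ) (R : Subgroup L), Nat.card L - Nat.card R = n → IsPGroup 3 R → D ≤ R →
      27 < Nat.card R → ∀ σ ∈ normalizer (R : Set L), (∀ w ∈ D, σ * w * σ⁻¹ * w ∈ zpowers x) →
      ∃ Q : Sylow 3 L, R ≤ (Q : Subgroup L) ∧ ∃ σ ∈ normalizer ((Q : Subgroup L) : Set L),
        ∀ w ∈ D, σ * w * σ⁻¹ * w ∈ zpowers x := by
  intro n
  induction n using Nat.strong_induction_on with
  | _ n ih =>
  intro R hn hR hDR h27 σ hσ hinv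
  obtain ⟨S, hS⟩ := hR.exists_le_sylow
  by_cases hRS : R = (S : Subgroup L)
  · exact ⟨S, hS, σ, by rw [← hRS]; exact hσ, hinv⟩
  set N := normalizer (R : Set L) with hN
  have hlt := lt_inf_normalizer_of_isPGroup S.2 (lt_of_le_of_ne hS hRS)
  obtain ⟨U₀, hU₀⟩ := ((S.2.to_inf_left (K := N)).comap_subtype (K := N)).exists_le_sylow
  set U := (U₀ : Subgroup N).map N.subtype with hU
  have hUp : IsPGroup 3 U := U₀.2.map _
  have hUN : U ≤ N := map_subtype_le _
  have hSU : (S : Subgroup L) ⊓ N ≤ U := fun a ha => ⟨⟨a, ha.2⟩, hU₀ ha, rfl⟩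
  have hRU : R < U := hlt.trans_le hSU
  set Nu := closure {s | s ∈ N ∧ ∃ k, orderOf s ∣ 3 ^ k} with hNu
  have hnu := C.nu_of_large hs hR (hDR hxD) h27
  have hUNu : U ≤ Nu := fun a ha => subset_closure ⟨hUN ha, orderOf_dvd_of_mem hUp ha⟩
  have hNuN : Nu ≤ N := (closure_le _).mpr fun s hs => hs.1
  have hUidx : ¬ 3 ∣ U.relIndex Nu := fun h => by
    refine U₀.not_dvd_index ?_
    have h1 : U.relIndex N = (U₀ : Subgroup N).index := by
      rw [hU, Subgroup.relIndex, Subgroup.subgroupOf, comap_map_eq_self_of_injective N.subtype_injective]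
    rw [← h1]
    exact h.trans (relIndex_mul_relIndex U Nu N hUNu hNuN ▸ dvd_mul_right _ _)
  have hσU : conjSub σ⁻¹ U ≤ Nu := by
    intro a ha
    rw [mem_conjSub, inv_inv] at ha
    have := conj_mem_pClosure hσ (hUNu ha)
    simpa [mul_assoc] using this
  obtain ⟨m, hmNu, hm⟩ := exists_conjSub_le_of_not_dvd_relIndex hUNu hUp hUidx hσU
    (isPGroup_conjSub hUp)
  rw [conjSub_conjSub] at hm
  have hmU := inv_mem (mem_normalizer_of_conjSub_eq (eq_of_le_of_card_ge hm (card_conjSub _ U).ge))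
  rw [mul_inv_rev, inv_inv] at hmU
  -- `m = u c`
  set Cc := Nu ⊓ centralizer (R : Set L) with hCc
  haveI : (Cc.subgroupOf Nu).Normal := by
    refine ⟨fun a ha g => ?_⟩
    rw [mem_subgroupOf] at ha ⊢
    refine mem_inf.mpr ⟨(g * a * g⁻¹ : Nu).2, mem_centralizer_iff.mpr fun b hb => ?_⟩
    have hb' : (g : L)⁻¹ * b * g ∈ R := (mem_normalizer_iff''.mp (hNuN g.2) b).mp hb
    have ha2 := mem_centralizer_iff.mp (mem_inf.mp ha).2 _ hb'
    simp only [Subgroup.coe_mul, Subgroup.coe_inv]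
    calc b * ((g : L) * a * (g : L)⁻¹) = g * (((g : L)⁻¹ * b * g) * a) * (g : L)⁻¹ := by group
      _ = g * (a * ((g : L)⁻¹ * b * g)) * (g : L)⁻¹ := by rw [ha2]
      _ = g * a * (g : L)⁻¹ * b := by group
  have hQ : IsPGroup 3 (Nu ⧸ Cc.subgroupOf Nu) := by
    rw [isPGroup_iff_orderOf_dvd_pow]
    intro q
    obtain ⟨g, rfl⟩ := QuotientGroup.mk_surjective q
    obtain ⟨s, t, hst, -, -, ht, ⟨k, hk⟩, htc⟩ :=
      exists_pPart_mul (p := 3) g (isOfFinOrder_of_finite g)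
    refine ⟨k, ?_⟩
    rw [hst, QuotientGroup.mk_mul, (QuotientGroup.eq_one_iff t).mpr (mem_subgroupOf.mpr
      (mem_inf.mpr ⟨t.2, hnu t t.2 (by rwa [Subgroup.orderOf_coe])⟩)), mul_one]
    exact (orderOf_map_dvd (QuotientGroup.mk' _) s).trans hk
  have htop : U.subgroupOf Nu ⊔ Cc.subgroupOf Nu = ⊤ := by
    obtain ⟨k, hk⟩ := hQ.exists_card_eq
    rw [← index_eq_card] at hk
    rw [← index_eq_one]
    have h1 : (U.subgroupOf Nu ⊔ Cc.subgroupOf Nu).index ∣ 3 ^ k :=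
      hk ▸ index_dvd_of_le le_sup_right
    obtain ⟨j, -, hj⟩ := (Nat.dvd_prime_pow hp.out).mp h1
    rcases j with _ | j
    · rw [hj, pow_zero]
    · exact absurd (((dvd_pow_self 3 (Nat.succ_ne_zero j)).trans hj.symm.dvd).trans
        (index_dvd_of_le le_sup_left)) hUidx
  obtain ⟨u, hu, c, hc, hmuc⟩ : ∃ u ∈ U, ∃ c ∈ Cc, m = u * c := by
    have hm' : (⟨m, hmNu⟩ : Nu) ∈ (↑(U.subgroupOf Nu ⊔ Cc.subgroupOf Nu) : Set Nu) := by
      rw [htop]; trivial
    rw [mul_normal] at hm'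
    obtain ⟨u, hu, c, hc, he⟩ := hm'
    exact ⟨u, hu, c, hc, (congrArg Subtype.val he).symm⟩
  have hc' : u * c⁻¹ * u⁻¹ ∈ centralizer (R : Set L) := by
    rw [mem_centralizer_iff]
    intro b hb
    have hb' : u⁻¹ * b * u ∈ R := (mem_normalizer_iff''.mp (hUN hu) b).mp hb
    have h1 := mem_centralizer_iff.mp (inv_mem (mem_inf.mp hc).2) _ hb'
    calc b * (u * c⁻¹ * u⁻¹) = u * ((u⁻¹ * b * u) * c⁻¹) * u⁻¹ := by group
      _ = u * (c⁻¹ * (u⁻¹ * b * u)) * u⁻¹ := by rw [h1]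
      _ = u * c⁻¹ * u⁻¹ * b := by group
  set σ' := u * (m⁻¹ * σ) with hσ'
  have hσ'U : σ' ∈ normalizer (U : Set L) := mul_mem (Subgroup.le_normalizer hu) hmU
  have hσ'e : σ' = (u * c⁻¹ * u⁻¹) * σ := by rw [hσ', hmuc]; group
  have hinv' : ∀ w ∈ D, σ' * w * σ'⁻¹ * w ∈ zpowers x := by
    intro w hw
    have hR' : σ * w * σ⁻¹ ∈ R := (mem_normalizer_iff.mp hσ w).mp (hDR hw)
    rw [hσ'e, show (u * c⁻¹ * u⁻¹ * σ) * w * (u * c⁻¹ * u⁻¹ * σ)⁻¹ * w =
      ((u * c⁻¹ * u⁻¹) * (σ * w * σ⁻¹)) * (u * c⁻¹ * u⁻¹)⁻¹ * w by group,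
      ← mem_centralizer_iff.mp hc' _ hR', mul_inv_cancel_right]
    exact hinv w hw
  have hcard : Nat.card R < Nat.card U :=
    lt_of_le_of_ne (card_le_of_le hRU.le) fun h => hRU.ne (eq_of_le_of_card_ge hRU.le h.ge)
  have hUL : Nat.card U ≤ Nat.card L := Nat.le_of_dvd Nat.card_pos (card_subgroup_dvd_card U)
  obtain ⟨Q, hQle, hQσ⟩ := ih _ (by omega) U rfl hUp (hDR.trans hRU.le) (h27.trans hcard) σ' hσ'U hinv'
  exact ⟨Q, hRU.le.trans hQle, hQσ⟩

/-- Fusion of large sets happens in `N(P)`. -/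
theorem gChain_large (hs : Small P x) {A : Set L} {g : L} (h : GChain P A g)
    (hA : ∀ F : Subgroup L, A ⊆ (F : Set L) → 27 < Nat.card F) :
    ∃ c ∈ centralizer A, ∃ n ∈ normalizer ((P : Subgroup L) : Set L), g = c * n := by
  induction h with
  | base c hc => exact ⟨c, hc, 1, one_mem _, (mul_one c).symm⟩
  | @cons A g y D hAD hy hD _ ih =>
    have hDP : D = (P : Subgroup L) := by
      by_contra hne
      have := hA D hAD
      rw [(C.gCond_cases hs hD hne).1] at this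
      exact lt_irrefl _ this
    obtain ⟨c, hc, n, hn, rfl⟩ := ih fun F hF => by
      rw [← card_conjSub y⁻¹ F]
      refine hA _ fun a ha => ?_
      rw [SetLike.mem_coe, mem_conjSub, inv_inv]
      exact hF ⟨a, ha, rfl⟩
    refine ⟨y * c * y⁻¹, ?_, y * n, mul_mem (hDP ▸ hy) hn, by group⟩
    rw [mem_centralizer_iff]
    intro a ha
    have h1 := mem_centralizer_iff.mp hc (y⁻¹ * a * y) ⟨a, ha, rfl⟩
    calc a * (y * c * y⁻¹) = y * ((y⁻¹ * a * y) * c) * y⁻¹ := by group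
      _ = y * (c * (y⁻¹ * a * y)) * y⁻¹ := by rw [h1]
      _ = y * c * y⁻¹ * a := by group

theorem zpowers_le_commutator_normalizer :
    zpowers x ≤ ⁅(P : Subgroup L), normalizer ((P : Subgroup L) : Set L)⁆ :=
  zpowers_le.mpr (commutator_mono le_rfl Subgroup.le_normalizer C.mem_comm)

/-- An exceptional member lies in `[P, N(P)]`. -/
theorem le_commutator_of_gCond (hs : Small P x) {D : Subgroup L} (hD : GCond P D)
    (hne : D ≠ (P : Subgroup L)) :
    D ≤ ⁅(P : Subgroup L), normalizer ((P : Subgroup L) : Set L)⁆ := by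
  obtain ⟨T, hTP, hDT, hT27, τ, hτ, hτinv⟩ := C.exists_inverting hs hD hne
  have hxD := C.mem_gCond hD
  obtain ⟨Q, hTQ, σ, hσ, hσinv⟩ := C.climb hs hxD _ T rfl (P.2.to_le hTP) hDT hT27 τ hτ hτinv
  obtain ⟨y, hy⟩ := MulAction.exists_smul_eq L Q P
  have hQP : ∀ q, q ∈ (Q : Subgroup L) → y * q * y⁻¹ ∈ (P : Subgroup L) := fun q hq => by
    rw [← hy]; exact ⟨q, hq, rfl⟩
  have hPQ : ∀ a, a ∈ (P : Subgroup L) → y⁻¹ * a * y ∈ (Q : Subgroup L) := fun a ha => by
    rw [← hy] at ha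
    obtain ⟨q, hq, rfl⟩ := ha
    show y⁻¹ * (y * q * y⁻¹) * y ∈ (Q : Subgroup L)
    rw [show y⁻¹ * (y * q * y⁻¹) * y = q by group]
    exact hq
  have hchain : GChain P (T : Set L) y⁻¹ := gChain_of_subset P (SetLike.coe_subset_coe.mpr hTP) (by
    rintro _ ⟨t, ht, rfl⟩
    show y⁻¹⁻¹ * t * y⁻¹ ∈ (P : Subgroup L)
    rw [inv_inv]
    exact hQP t (hTQ ht))
  obtain ⟨c, hc, n, hn, hyc⟩ := C.gChain_large hs hchain fun F hF =>
    hT27.trans_le (card_le_of_le (SetLike.coe_subset_coe.mp hF))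
  set δ := c⁻¹ * σ * c with hδ
  have hδN : δ ∈ normalizer ((P : Subgroup L) : Set L) := by
    have key : ∀ a, a ∈ (P : Subgroup L) ↔ c * a * c⁻¹ ∈ (Q : Subgroup L) := by
      intro a
      have hc' : c = y⁻¹ * n⁻¹ := by rw [hyc, mul_inv_cancel_right]
      rw [mem_normalizer_iff.mp (inv_mem hn) a, inv_inv]
      rw [show c * a * c⁻¹ = y⁻¹ * (n⁻¹ * a * n) * y by rw [hc']; group]
      exact ⟨hPQ _, fun h => by simpa [mul_assoc] using hQP _ h⟩
    rw [mem_normalizer_iff]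
    intro a
    rw [key a, key (δ * a * δ⁻¹), mem_normalizer_iff.mp hσ (c * a * c⁻¹), hδ]
    simp [mul_assoc]
  intro w hw
  obtain ⟨i, hi⟩ := mem_zpowers_iff.mp (hσinv w hw)
  have hwc : c * w = w * c := (mem_centralizer_iff.mp hc w (hDT hw)).symm
  have hxc : Commute c (x ^ i) := (show Commute c x from (mem_centralizer_iff.mp hc x (hDT hxD)).symm).zpow_right i
  have hwc' : Commute c w := hwc
  have h1 : δ * w * δ⁻¹ = x ^ i * w⁻¹ := by
    calc δ * w * δ⁻¹ = c⁻¹ * σ * (c * w * c⁻¹) * σ⁻¹ * c := by rw [hδ]; group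
      _ = c⁻¹ * (σ * w * σ⁻¹) * c := by rw [hwc, mul_inv_cancel_right]; group
      _ = c⁻¹ * (x ^ i * w⁻¹) * c := by rw [hi]; group
      _ = x ^ i * w⁻¹ := by
        rw [mul_assoc, ← (hxc.mul_right hwc'.inv_right).eq, inv_mul_cancel_left]
  set H := ⁅(P : Subgroup L), normalizer ((P : Subgroup L) : Set L)⁆ with hH
  have hxH : x ^ i ∈ H := C.zpowers_le_commutator_normalizer (zpow_mem (mem_zpowers x) i)
  have hwP : w ∈ (P : Subgroup L) := hTP (hDT hw)
  have h2 : ⁅w, δ⁆ = w * (δ * w * δ⁻¹)⁻¹ := by rw [commutatorElement_def]; group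
  have h3 : w * w ∈ H := by
    have h4 : ⁅w, δ⁆ ∈ H := commutator_mem_commutator hwP hδN
    rw [h2, h1, mul_inv_rev, inv_inv, ← mul_assoc] at h4
    exact (mul_mem_cancel_right (inv_mem hxH)).mp h4
  have h5 := mul_mem h3 h3
  rwa [show w * w * (w * w) = w ^ 3 * w by simp [pow_succ, mul_assoc],
    (C.gCond_cases hs hD hne).2.1 w hw, one_mul] at h5

/-- `P = [P, N(P)]`. -/
theorem le_commutator (hs : Small P x) :
    (P : Subgroup L) ≤ ⁅(P : Subgroup L), normalizer ((P : Subgroup L) : Set L)⁆ :=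
  C.le_of_family fun D hD a ha n hn => by
    by_cases hne : D = (P : Subgroup L)
    · subst hne
      exact mem_H_of_normalizer ha hn
    · have hle := C.le_commutator_of_gCond hs hD hne
      exact mul_mem (inv_mem (hle ha)) (hle ((mem_normalizer_iff''.mp hn a).mp ha))

end Ctx

end Cfsg.Agent.IsolatedRankTwo
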