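import Cfsg.Agent.IsolatedRankTwo.Exceptional
import Cfsg.Agent.MaxClass.TwoStep
import Cfsg.Agent.MaxClass.UpperCard

/-!
# The order of a Sylow `3`-subgroup of maximal class with an isolated element

With `P = [P, N(P)]` some element of `N(P)` inverts `P / P'`. It acts on the `i`-th factor of the lower
central series as `(-1) ^ (i + 1)`, and it fixes the central element `x`, so `|P|` is an odd power
of three.
-/

set_option autoImplicit false
set_option linter.all false

namespace Cfsg.Agent.IsolatedRankTwo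

open Subgroup Cfsg.Agent.Fusion
open scoped commutatorElement

universe u

variable {L : Type u} [Group L] [Finite L] [hp : Fact (Nat.Prime 3)] {P : Sylow 3 L} {x : L}

/-- An automorphism inverting modulo the derived subgroup alternates on the lower central series. -/
theorem alternate {X : Type u} [Group X] (φ : MulAut X)
    (h : ∀ a : X, φ a * a ∈ _root_.commutator X) :
    ∀ i : ℕ, ∀ c ∈ (⊤ : Subgroup X).lowerCentralSeries i,
      φ c * (c ^ ((-1 : ℤ) ^ (i + 1)))⁻¹ ∈ (⊤ : Subgroup X).lowerCentralSeries (i + 1) := by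
  intro i
  induction i with
  | zero =>
    intro c _
    rw [zero_add, pow_one, zpow_neg, zpow_one, inv_inv, Subgroup.top_lowerCentralSeries_one]
    exact h c
  | succ i ih =>
    set ε : ℤ := (-1) ^ (i + 1) with hε
    have hε' : (-1 : ℤ) ^ (i + 1 + 1) = -ε := by rw [pow_succ, hε]; ring
    set π := QuotientGroup.mk' ((⊤ : Subgroup X).lowerCentralSeries (i + 2)) with hπ
    have hker : ∀ y, π y = 1 ↔ y ∈ (⊤ : Subgroup X).lowerCentralSeries (i + 2) := fun y =>
      QuotientGroup.eq_one_iff y
    have hcen : ∀ y ∈ (⊤ : Subgroup X).lowerCentralSeries (i + 1), ∀ z, Commute (π y) z := by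
      intro y hy z
      obtain ⟨g, rfl⟩ := QuotientGroup.mk'_surjective _ z
      refine commutatorElement_eq_one_iff_commute.mp ?_
      rw [← map_commutatorElement, hker, ← commutatorElement_inv]
      exact inv_mem (MaxClass.Graded.L_comm_x hy g)
    let S : Subgroup X :=
      { carrier := {y | y ∈ (⊤ : Subgroup X).lowerCentralSeries (i + 1) ∧ π (φ y) = π y ^ (-ε)}
        one_mem' := ⟨one_mem _, by rw [map_one, map_one, one_zpow]⟩
        mul_mem' := fun {a b} ha hb => ⟨mul_mem ha.1 hb.1, by
          rw [map_mul, map_mul, map_mul, ha.2, hb.2, (hcen a ha.1 (π b)).mul_zpow]⟩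
        inv_mem' := fun {a} ha => ⟨inv_mem ha.1, by
          rw [map_inv, map_inv, map_inv, ha.2, inv_zpow]⟩ }
    have hle : (⊤ : Subgroup X).lowerCentralSeries (i + 1) ≤ S := by
      rw [Subgroup.lowerCentralSeries_succ, commutator_le]
      intro c hc g _
      have hcg : ⁅c, g⁆ ∈ (⊤ : Subgroup X).lowerCentralSeries (i + 1) := by
        rw [Subgroup.lowerCentralSeries_succ]; exact commutator_mem_commutator hc (mem_top g)
      refine ⟨hcg, ?_⟩
      set m := φ c * (c ^ ε)⁻¹ with hm
      have hm1 : m ∈ (⊤ : Subgroup X).lowerCentralSeries (i + 1) := ih c hc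
      set m' := φ g * g with hm'
      have hm'1 : m' ∈ (⊤ : Subgroup X).lowerCentralSeries 1 := by
        rw [Subgroup.top_lowerCentralSeries_one]; exact h g
      clear_value m m'
      have hεc : c ^ ε ∈ (⊤ : Subgroup X).lowerCentralSeries i := zpow_mem hc _
      have hcm' : ⁅π (c ^ ε), π m'⁆ = 1 := by
        rw [← map_commutatorElement, hker]
        exact MaxClass.Graded.L_comm hεc hm'1
      have hz : ∀ y, Commute ⁅π c, π g⁆ y := by
        intro y
        rw [← map_commutatorElement]
        exact hcen _ hcg y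
      rw [map_commutatorElement, map_commutatorElement, map_commutatorElement,
        show φ c = m * c ^ ε by rw [hm, inv_mul_cancel_right],
        show φ g = m' * g⁻¹ by rw [hm', mul_inv_cancel_right], map_mul, map_mul,
        commutatorElement_mul_left_eq_conj_mul,
        commutatorElement_eq_one_iff_commute.mpr (hcen m hm1 (π m' * π g⁻¹)), mul_one,
        commutatorElement_mul_right_eq_mul_conj, hcm', one_mul]
      have hcore : ⁅π (c ^ ε), π g⁻¹⁆ = ⁅π c, π g⁆ ^ (-ε) := by
        rw [map_zpow, map_inv]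
        have e1 : ⁅π c, (π g)⁻¹⁆ = ⁅π c, π g⁆⁻¹ := by
          rw [show ⁅π c, (π g)⁻¹⁆ = (π g)⁻¹ * ⁅π c, π g⁆⁻¹ * π g by
            rw [commutatorElement_def, commutatorElement_def]; group, mul_assoc,
            ((hz (π g)).inv_left).eq, inv_mul_cancel_left]
        rcases neg_one_pow_eq_or ℤ (i + 1) with hp1 | hp1
        · rw [hε, hp1, zpow_one, zpow_neg, zpow_one, e1]
        · rw [hε, hp1, neg_neg, zpow_one, zpow_neg, zpow_one,
            show ⁅(π c)⁻¹, (π g)⁻¹⁆ = (π g * π c)⁻¹ * ⁅π c, π g⁆ * (π g * π c) by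
              rw [commutatorElement_def, commutatorElement_def]; group, mul_assoc,
            (hz (π g * π c)).eq, inv_mul_cancel_left]
      rw [hcore, (((hz (π m')).zpow_left (-ε)).symm).eq, mul_inv_cancel_right,
        (((hz (π m)).zpow_left (-ε)).symm).eq, mul_inv_cancel_right]
    intro c hc
    rw [hε', ← hker, map_mul, map_inv, map_zpow, (hle hc).2, mul_inv_cancel]

namespace Ctx

variable (C : Ctx 3 P x)
include C

theorem odd_of_maxClass {n : ℕ} (hn : Nat.card (P : Subgroup L) = 3 ^ n) (h4 : 4 ≤ n)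
    (hmc : (⊤ : Subgroup (P : Subgroup L)).lowerCentralSeries (n - 2) ≠ ⊥)
    (hPH : (P : Subgroup L) ≤ ⁅(P : Subgroup L), normalizer ((P : Subgroup L) : Set L)⁆) :
    Odd n := by
  classical
  have hM := MaxClass.TwoStep.mcl_of_ne_bot hn (by omega) hmc
  have hX : IsPGroup 3 (P : Subgroup L) := P.2
  set K := _root_.commutator (P : Subgroup L) with hK
  have hKc : Nat.card K = 3 ^ (n - 2) := by
    have h := hM.cardL (le_refl 1)
    rw [Subgroup.top_lowerCentralSeries_one] at h
    rw [hK, h, show n - 1 - 1 = n - 2 by omega]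
  have hV : Nat.card ((P : Subgroup L) ⧸ K) = 9 := by
    have h := K.card_eq_card_quotient_mul_card_subgroup
    rw [hn, hKc, show 3 ^ n = 9 * 3 ^ (n - 2) by
      rw [show (9 : ℕ) = 3 ^ 2 by norm_num, ← pow_add]; congr 1; omega] at h
    exact (Nat.eq_of_mul_eq_mul_right (pow_pos (by norm_num) _) h).symm
  have hVc : ∀ v w : (P : Subgroup L) ⧸ K, v * w = w * v := fun v w => by
    induction v using QuotientGroup.induction_on with
    | H a => induction w using QuotientGroup.induction_on with
      | H b =>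
        refine commutatorElement_eq_one_iff_mul_comm.mp ?_
        rw [← QuotientGroup.mk'_apply, ← QuotientGroup.mk'_apply, ← map_commutatorElement,
          QuotientGroup.mk'_apply, QuotientGroup.eq_one_iff, hK]
        exact commutator_mem_commutator (mem_top a) (mem_top b)
  have hVe : ∀ v : (P : Subgroup L) ⧸ K, v ^ 3 = 1 := by
    intro v
    have hne : _root_.commutator (P : Subgroup L) ≠ ⊥ := fun h => by
      rw [hK, h, card_bot] at hKc
      exact (Nat.one_lt_pow (by omega) (by norm_num : 1 < 3)).ne hKc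
    have hncyc := MaxClass.not_isCyclic_quotient_commutator hX hne
    rw [← orderOf_dvd_iff_pow_eq_one]
    obtain ⟨j, hj2, hj⟩ := (Nat.dvd_prime_pow hp.out).mp
      (show orderOf v ∣ 3 ^ 2 by rw [show (3 : ℕ) ^ 2 = 9 by norm_num, ← hV]; exact orderOf_dvd_natCard v)
    rcases (by omega : j ≤ 1 ∨ j = 2) with h1 | rfl
    · rw [hj]; exact (pow_dvd_pow 3 h1).trans (pow_one 3).dvd
    · exact absurd (isCyclic_of_orderOf_eq_card v (by rw [hj, hV]; norm_num)) hncyc
  set N := normalizer ((P : Subgroup L) : Set L) with hN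
  have hKmap : ∀ m : N,
      K.map ((P : Subgroup L).normalizerMonoidHom m : (P : Subgroup L) ≃* (P : Subgroup L)).toMonoidHom = K :=
    fun m => characteristic_iff_map_eq.mp (by rw [hK]; infer_instance) _
  obtain ⟨ρ, hρ⟩ : ∃ ρ : N →* MulAut ((P : Subgroup L) ⧸ K), ∀ m w,
      ρ m (QuotientGroup.mk w) = QuotientGroup.mk ((P : Subgroup L).normalizerMonoidHom m w) :=
    ⟨MonoidHom.mk' (fun m => QuotientGroup.congr K K ((P : Subgroup L).normalizerMonoidHom m) (hKmap m))
      (fun a b => by
        apply MulEquiv.ext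
        intro v
        induction v using QuotientGroup.induction_on with
        | H w =>
          show QuotientGroup.mk ((P : Subgroup L).normalizerMonoidHom (a * b) w) =
            QuotientGroup.mk ((P : Subgroup L).normalizerMonoidHom a ((P : Subgroup L).normalizerMonoidHom b w))
          rw [map_mul, MulAut.mul_apply]), fun m w => rfl⟩
  have hcop : ∀ γ ∈ ρ.range, (orderOf γ).Coprime 3 := by
    rintro _ ⟨m, rfl⟩
    obtain ⟨s, t, hst, -, -, -, hs, ht⟩ := exists_pPart_mul (p := 3) m (isOfFinOrder_of_finite m)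
    have hsP : (s : L) ∈ (P : Subgroup L) := mem_of_pElement s.2 (by rwa [Subgroup.orderOf_coe])
    have h1 : ρ s = 1 := by
      apply MulEquiv.ext
      intro v
      induction v using QuotientGroup.induction_on with
      | H w =>
        rw [hρ, MulAut.one_apply, show (P : Subgroup L).normalizerMonoidHom s w =
          (⟨s, hsP⟩ : (P : Subgroup L)) * w * (⟨s, hsP⟩ : (P : Subgroup L))⁻¹ from rfl,
          QuotientGroup.mk_mul, QuotientGroup.mk_mul, QuotientGroup.mk_inv, hVc _ (QuotientGroup.mk w),
          mul_inv_cancel_right]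
    rw [hst, map_mul, h1, one_mul]
    exact ht.coprime_dvd_left (orderOf_map_dvd ρ t)
  have hgen : closure {u : (P : Subgroup L) ⧸ K | ∃ v, ∃ γ ∈ ρ.range, u = v⁻¹ * γ v} = ⊤ := by
    set U := closure {u : (P : Subgroup L) ⧸ K | ∃ v, ∃ γ ∈ ρ.range, u = v⁻¹ * γ v} with hU
    have h1 : (P : Subgroup L) ≤ (U.comap (QuotientGroup.mk' K)).map (P : Subgroup L).subtype := by
      refine hPH.trans (commutator_le.mpr fun a ha m hm => ?_)
      refine ⟨⟨a, ha⟩ * (P : Subgroup L).normalizerMonoidHom ⟨m, hm⟩ ⟨a, ha⟩⁻¹, ?_, ?_⟩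
      · refine mem_comap.mpr (subset_closure
          ⟨(QuotientGroup.mk ⟨a, ha⟩)⁻¹, ρ ⟨m, hm⟩, ⟨_, rfl⟩, ?_⟩)
        rw [inv_inv, ← QuotientGroup.mk_inv, hρ]
        rfl
      · show a * (m * a⁻¹ * m⁻¹) = ⁅a, m⁆
        rw [commutatorElement_def]; group
    rw [eq_top_iff]
    intro v _
    induction v using QuotientGroup.induction_on with
    | H w =>
      obtain ⟨b, hb, hbw⟩ := h1 w.2
      rw [show b = w from Subtype.ext hbw] at hb
      exact hb
  obtain ⟨_, ⟨m, rfl⟩, hm⟩ := Plane.exists_neg hVc hVe hV ρ.range hcop hgen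
  set φ := (P : Subgroup L).normalizerMonoidHom m with hφ
  have hinv : ∀ a : (P : Subgroup L), φ a * a ∈ _root_.commutator (P : Subgroup L) := by
    intro a
    rw [← QuotientGroup.eq_one_iff, QuotientGroup.mk_mul, ← hρ, hm, inv_mul_cancel]
  set x' : (P : Subgroup L) := ⟨x, C.mem⟩ with hx'
  have hxc : x' ∈ (⊤ : Subgroup (P : Subgroup L)).lowerCentralSeries (n - 2) := by
    have hle : (⊤ : Subgroup (P : Subgroup L)).lowerCentralSeries (n - 2) ≤ center (P : Subgroup L) :=
      fun y hy => mem_center_iff.mpr fun g => (commutatorElement_eq_one_iff_mul_comm.mp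
        (hM.eq_one (i := n - 2 + 1) (by omega) (MaxClass.Graded.L_comm_x hy g)))
    have hcc : Nat.card (center (P : Subgroup L)) = 3 := by
      have h := MaxClass.card_upperCentralSeries hn (by omega) hmc (i := 1) (by omega)
      rwa [Subgroup.upperCentralSeries_one, pow_one] at h
    rw [eq_of_le_of_card_ge hle (by
      rw [hcc, hM.cardL (by omega), show n - 1 - (n - 2) = 1 by omega, pow_one])]
    exact mem_center_iff.mpr fun g => Subtype.ext (C.comm g.2).eq
  have h1 := alternate φ hinv (n - 2) x' hxc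
  have h2 : φ x' = x' := Subtype.ext (C.fix P.2 C.mem m.2)
  have h3 := hM.eq_one (i := n - 2 + 1) (by omega) h1
  rw [h2, mul_inv_eq_one] at h3
  by_contra hodd
  rw [Nat.not_odd_iff_even] at hodd
  have hev : Even (n - 2) := (Nat.even_sub (by omega)).mpr (iff_of_true hodd even_two)
  rw [hev.add_one.neg_one_pow, zpow_neg, zpow_one, ← mul_eq_one_iff_eq_inv, ← pow_two] at h3
  have h4 := orderOf_dvd_of_pow_eq_one h3
  rw [hx', orderOf_mk, C.ord] at h4
  norm_num at h4

end Ctx

end Cfsg.Agent.IsolatedRankTwo
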