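import Cfsg.Agent.IsolatedRankTwo.PowerMap
import Cfsg.Agent.IsolatedRankTwo.Parity
import Cfsg.Agent.FusSys.EssentialCube

/-!
# Sylow subgroups with an isolated element in a perfect group of rank two
-/

set_option autoImplicit false
set_option linter.all false

namespace Cfsg.Agent.IsolatedRankTwo

open Subgroup Cfsg.Agent.Fusion
open scoped commutatorElement

universe u

variable {p : ℕ} {L : Type u} [Group L] [Finite L] [hp : Fact p.Prime] {P : Sylow p L} {x : L}

theorem small_of_centralizer {L : Type u} [Group L] [Finite L] [Fact (Nat.Prime 3)]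
    {P : Sylow 3 L} {x : L} (C : Ctx 3 P x) {E Z : Subgroup (P : Subgroup L)}
    (F : RankTwo.Frame 3 E Z)
    (hc : ∀ u : (P : Subgroup L), u ^ 3 = 1 → u ∉ centralizer (E : Set (P : Subgroup L)) →
      Nat.card (centralizer ({u} : Set (P : Subgroup L))) ≤ 3 ^ 2) : Small P x := by
  intro R W hRP hWR hWc hWe hcm
  have hWP : W ≤ (P : Subgroup L) := hWR.trans hRP
  have hne : ¬ W.subgroupOf (P : Subgroup L) ≤ centralizer (E : Set (P : Subgroup L)) := by
    intro hle
    have h1 : W.subgroupOf (P : Subgroup L) ≤ E := fun w hw =>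
      F.omega w (hle hw) (Subtype.ext (by simpa using hWe _ (mem_subgroupOf.mp hw)))
    have h2 := card_le_of_le h1
    rw [Nat.card_congr (subgroupOfEquivOfLe hWP).toEquiv, hWc, F.Ec] at h2
    norm_num at h2
  obtain ⟨u, huW, huC⟩ := SetLike.not_le_iff_exists.mp hne
  have hu3 : u ^ 3 = 1 := Subtype.ext (by simpa using hWe _ (mem_subgroupOf.mp huW))
  have h1 := OddLocal.card_le_of_commutator_mem (L := R.subgroupOf (P : Subgroup L))
    (N := zpowers (⟨x, C.mem⟩ : (P : Subgroup L))) (s := u) fun k hk => by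
      obtain ⟨i, hi⟩ := mem_zpowers_iff.mp (hcm _ (mem_subgroupOf.mp hk) _ (mem_subgroupOf.mp huW))
      exact ⟨i, Subtype.ext (by simpa [commutatorElement_def] using hi)⟩
  rw [Nat.card_zpowers, orderOf_mk, C.ord, Nat.card_congr (subgroupOfEquivOfLe hRP).toEquiv] at h1
  refine (eq_of_le_of_card_ge hWR ?_).symm
  rw [hWc]
  calc Nat.card R ≤ _ := h1
    _ ≤ 3 ^ 2 * 3 := Nat.mul_le_mul_right 3 ((card_le_of_le inf_le_right).trans (hc u hu3 huC))
    _ = 27 := by norm_num

theorem isMetacyclic_cube {X : Type u} [Group X] [Finite X] (hX : Nat.card X = p ^ 3)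
    (hna : ¬ IsMulCommutative X) {a : X} (ha : a ^ p ≠ 1) : Cfsg.IsMetacyclic X := by
  obtain ⟨⟨hXp, hfr, hcm⟩, hcen⟩ := FusSys.extraspecial_of_cube hX hna
  have hp' := hp.out
  have hz : a ^ p ∈ center X := by
    rw [← hfr]
    exact RankTwo.powers_le_frattini hXp (RankTwo.pow_mem_powers a)
  have hle : center X ≤ zpowers a := by
    have h1 : zpowers (a ^ p) = center X := by
      refine eq_of_le_of_card_ge (zpowers_le.mpr hz) ?_
      rw [hcen, Nat.card_zpowers]
      obtain ⟨k, hk⟩ := IsPGroup.iff_orderOf.mp hXp (a ^ p)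
      rw [hk]
      exact Nat.le_self_pow (fun h => ha (orderOf_eq_one_iff.mp (by rw [hk, h, pow_zero]))) p
    rw [← h1]
    exact zpowers_le.mpr (pow_mem (mem_zpowers a) p)
  haveI hN : (zpowers a).Normal := by
    refine ⟨fun b hb g => ?_⟩
    rw [show g * b * g⁻¹ = ⁅g, b⁆ * b by rw [commutatorElement_def]; group]
    exact mul_mem (hle (hcm ▸ commutator_mem_commutator (mem_top g) (mem_top b))) hb
  refine ⟨zpowers a, hN, inferInstance, ?_⟩
  obtain ⟨j, hj⟩ := hXp.index (zpowers a)
  obtain ⟨k, hk⟩ := IsPGroup.iff_orderOf.mp hXp a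
  have h2 := (zpowers a).index_mul_card
  rw [hj, Nat.card_zpowers, hk, hX, ← pow_add] at h2
  have h3 := Nat.pow_right_injective hp'.two_le h2
  have hk2 : 2 ≤ k := by
    by_contra hlt
    exact ha (orderOf_dvd_iff_pow_eq_one.mp (hk ▸ (pow_dvd_pow p (by omega : k ≤ 1)).trans (pow_one p).dvd))
  rcases (by omega : j = 0 ∨ j = 1) with rfl | rfl
  · haveI : Subsingleton (X ⧸ zpowers a) := (Nat.card_eq_one_iff_unique.1
      (by rw [← index_eq_card, hj, pow_zero])).1
    infer_instance
  · exact isCyclic_of_prime_card (p := p) (by rw [← index_eq_card, hj, pow_one])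

/-- The Sylow subgroups of a perfect group of rank two around an isolated element of order `p`. -/
theorem Ctx.structure_sylow (C : Ctx p P x) :
    (Cfsg.IsExtraspecial p (P : Subgroup L) ∧ Nat.card (P : Subgroup L) = p ^ 3 ∧
        ∀ y ∈ (P : Subgroup L), y ^ p = 1) ∨
    (p = 3 ∧ ∃ k : ℕ, 2 ≤ k ∧ Nat.card (P : Subgroup L) = 3 ^ (2 * k + 1) ∧
        ∃ _ : Group.IsNilpotent (P : Subgroup L),
          Group.nilpotencyClass (P : Subgroup L) = 2 * k) := by
  classical
  have hGp : IsPGroup p (P : Subgroup L) := P.2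
  have hp2 := C.hp2
  have hr := C.rank_subgroup (P : Subgroup L)
  have hxc : (⟨x, C.mem⟩ : (P : Subgroup L)) ∈ _root_.commutator (P : Subgroup L) :=
    SqClass.mem_commutator_of_isolated C.perf P C.mem C.iso
  have hne : _root_.commutator (P : Subgroup L) ≠ ⊥ := fun h => by
    rw [h, mem_bot] at hxc
    exact C.ne_one (congrArg Subtype.val hxc)
  have hna : ¬ IsMulCommutative (P : Subgroup L) := fun h => hne (by
    rw [eq_bot_iff, _root_.commutator_def, commutator_le]
    intro a _ b _
    exact mem_bot.mpr (commutatorElement_eq_one_iff_mul_comm.mpr (h.is_comm.comm a b)))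
  obtain ⟨n, hn⟩ := hGp.exists_card_eq
  have hn3 : 3 ≤ n := by
    haveI := (nontrivial_iff_ne_bot _).2 hne
    have h1 := Nat.le_of_dvd (Nat.pos_of_ne_zero index_ne_zero_of_finite)
      (MaxClass.sq_dvd_index_commutator hGp hne)
    have h2 := (_root_.commutator (P : Subgroup L)).index_mul_card
    have h3 : p ≤ Nat.card (_root_.commutator (P : Subgroup L)) :=
      Nat.le_of_dvd Nat.card_pos (((hGp.to_subgroup _).card_eq_or_dvd).resolve_left
        Finite.one_lt_card.ne')
    rw [hn] at h2
    refine (Nat.pow_le_pow_iff_right hp.out.one_lt).mp ?_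
    rw [← h2, pow_succ]
    exact Nat.mul_le_mul h1 h3
  rcases Nat.eq_or_lt_of_le hn3 with rfl | hn4
  · by_cases hexp : ∀ a : (P : Subgroup L), a ^ p = 1
    · exact Or.inl ⟨FusSys.extraspecial_of_cube hn hna, hn,
        fun y hy => by simpa using congrArg Subtype.val (hexp ⟨y, hy⟩)⟩
    · push Not at hexp
      obtain ⟨a, ha⟩ := hexp
      exact (C.not_metacyclic (isMetacyclic_cube hn hna ha)).elim
  have hcy : ¬ IsCyclic (P : Subgroup L) := fun h => hna inferInstance
  obtain ⟨E, hEn, hE, hEc⟩ := Fusion.exists_normal_elementary_card_sq hp2 hGp hcy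
  haveI := hEn
  have hω : ∀ y ∈ centralizer (E : Set (P : Subgroup L)), y ^ p = 1 → y ∈ E := by
    intro y hy hyp
    by_contra hyE
    set A := closure ((E : Set (P : Subgroup L)) ∪ {y}) with hA
    have hcomm : ∀ a ∈ A, ∀ b ∈ A, a * b = b * a := by
      have hle : A ≤ centralizer (A : Set (P : Subgroup L)) := by
        rw [hA, closure_le, centralizer_closure]
        rintro a (ha | rfl) <;> refine mem_centralizer_iff.mpr ?_
        · rintro b (hb | rfl)
          exacts [congrArg Subtype.val (hE.1.is_comm.comm (⟨b, hb⟩ : E) ⟨a, ha⟩),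
            (mem_centralizer_iff.mp hy a ha).symm]
        · rintro b (hb | rfl)
          exacts [mem_centralizer_iff.mp hy b hb, rfl]
      exact fun a ha b hb => mem_centralizer_iff.mp (hle hb) a ha
    have hexp : ∀ a ∈ A, a ^ p = 1 := by
      intro a ha
      rw [hA] at ha
      induction ha using closure_induction with
      | mem w hw =>
        rcases hw with hw | rfl
        exacts [hE.2 w hw, hyp]
      | one => exact one_pow p
      | mul a b ha hb iha ihb =>
        rw [(show Commute a b from hcomm a (hA ▸ ha) b (hA ▸ hb)).mul_pow, iha, ihb, one_mul]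
      | inv a _ iha => rw [inv_pow, iha, inv_one]
    have h1 := RankTwo.card_le_of_rank hr hcomm hexp
    have h2 := RankTwo.card_mul_le_of_lt hGp (lt_of_le_of_ne
      (fun a ha => subset_closure (Or.inl ha) : E ≤ A)
      fun h => hyE (h ▸ subset_closure (Or.inr rfl)))
    rw [hEc, ← pow_succ'] at h2
    exact absurd ((Nat.pow_le_pow_iff_right hp.out.one_lt).mp (h2.trans h1)) (by norm_num)
  by_cases hcen : E ≤ center (P : Subgroup L)
  · refine (C.not_metacyclic (RankTwo.isMetacyclic_of_pCentral hp2 hGp (fun z hz => hcen (hω z ?_ hz)) ?_)).elim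
    · exact mem_centralizer_iff.mpr fun e he => (mem_center_iff.mp (hcen he) z).symm
    · rw [← hEc]
      exact Nat.le_of_dvd Nat.card_pos (card_dvd_of_le ((closure_le _).mpr
        fun z hz => hω z (mem_centralizer_iff.mpr
          fun e he => (mem_center_iff.mp (hcen he) z).symm) hz.2))
  obtain ⟨Z, F⟩ := RankTwo.exists_frame hGp hEc hE.2 hcen hω
  -- the families with a long cyclic part
  have hlong : ∀ (u c : (P : Subgroup L)) (k : ℕ), u ^ p = 1 →
      u ∉ centralizer (E : Set (P : Subgroup L)) → RankTwo.GenData p E Z u c k →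
      (p = 3 → p ^ 2 < Nat.card (centralizer ({u} : Set (P : Subgroup L)))) → False := by
    intro u c k hu huC D hbig
    have hk : 1 ≤ k := by
      by_contra hk
      obtain rfl : k = 0 := by omega
      have hcE : c ∈ E := F.omega c (D.sup.le (mem_sup_right (mem_zpowers c)))
        (orderOf_dvd_iff_pow_eq_one.mp (D.order.dvd.trans (by rw [zero_add, pow_one])))
      have h1 := F.card_le_mul hGp
      rw [← D.sup, sup_eq_left.mpr (zpowers_le.mpr hcE), F.Ec, hn, ← pow_succ'] at h1
      exact absurd ((Nat.pow_le_pow_iff_right hp.out.one_lt).mp h1) (by omega)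
    obtain ⟨hcyc, K, hKc, hpow, hmul, hK⟩ := powerData F hGp hp2 hu huC D hk fun _ hp3 => by
      obtain ⟨d, hd, hud, hdZ, -, hgen⟩ := F.exists_fixed hGp hp2 huC (hbig hp3)
      exact ⟨d, hd, hud, hdZ, hgen⟩
    exact C.false_of_powerMap hcyc hKc hpow hmul hK
  by_cases hp3 : 3 < p
  · by_cases hu : ∃ u : (P : Subgroup L), u ^ p = 1 ∧ u ∉ centralizer (E : Set (P : Subgroup L))
    · obtain ⟨u, hup, huC⟩ := hu
      obtain ⟨c, k, D⟩ := F.genData_of_rank hGp hp3 hr hup huC
      exact (hlong u c k hup huC D fun h => absurd h (by omega)).elim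
    · push Not at hu
      refine (C.not_metacyclic (RankTwo.isMetacyclic_of_omega hp3 hGp ?_)).elim
      rw [← hEc]
      exact Nat.le_of_dvd Nat.card_pos (card_dvd_of_le ((closure_le _).mpr
        fun z hz => hω z (hu z hz.2) hz.2))
  obtain rfl : p = 3 := by have := hp.out.two_le; omega
  by_cases hbig : ∃ u : (P : Subgroup L), u ^ 3 = 1 ∧ u ∉ centralizer (E : Set (P : Subgroup L)) ∧
      3 ^ 2 < Nat.card (centralizer ({u} : Set (P : Subgroup L)))
  · obtain ⟨u, hup, huC, hub⟩ := hbig
    obtain ⟨c, k, D⟩ := F.genData_of_big hGp hp2 hup huC hub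
    exact (hlong u c k hup huC D fun _ => hub).elim
  push Not at hbig
  have hs : Small P x := small_of_centralizer C F hbig
  have hmc : (⊤ : Subgroup (P : Subgroup L)).lowerCentralSeries (n - 2) ≠ ⊥ := by
    by_cases hu : ∃ u : (P : Subgroup L), u ^ 3 = 1 ∧ u ∉ centralizer (E : Set (P : Subgroup L))
    · obtain ⟨u, hup, huC⟩ := hu
      exact RankTwo.maxClass_of_centralizer n _ hn (by omega) ⟨u, hbig u hup huC⟩
    · push Not at hu
      rcases RankTwo.frame_dichotomy _ _ E Z rfl hp2 hGp F (fun g hg h => hg (hu g h)) with h | h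
      · exact (C.not_metacyclic h).elim
      · exact h n hn
  obtain ⟨k, hk⟩ := C.odd_of_maxClass hn hn4 hmc (C.le_commutator hs)
  refine Or.inr ⟨rfl, k, by omega, hk ▸ hn, hGp.isNilpotent, ?_⟩
  have h := (MaxClass.TwoStep.mcl_of_ne_bot hn (by omega) hmc).cl
  rw [h, hk]
  omega

end Cfsg.Agent.IsolatedRankTwo
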