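import Cfsg.Agent.IsolatedRankTwo.Radical
import Cfsg.Agent.RankTwo.Basic

/-!
# A Sylow subgroup with an isolated element of order `p` is not metacyclic

In a perfect group of rank two the normalizer of a metacyclic Sylow subgroup `P` controls fusion, so
`P = [P, N(P)]`; then `P'` is central, a power map sends `P` onto a subgroup of its centre avoiding
`x`, and `P` is abelian.
-/

set_option autoImplicit false
set_option linter.all false

namespace Cfsg.Agent.IsolatedRankTwo

open Subgroup Cfsg.Agent.Fusion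
open scoped commutatorElement

universe u

variable {p : ℕ} {L : Type u} [Group L] [Finite L] [hp : Fact p.Prime] {P : Sylow p L} {x : L}

theorem normalizer_le_normalizer_center :
    normalizer ((P : Subgroup L) : Set L) ≤
      normalizer ((((P : Subgroup L) ⊓ centralizer ((P : Subgroup L) : Set L)) : Subgroup L) : Set L) := by
  have key : ∀ m ∈ normalizer ((P : Subgroup L) : Set L),
      ∀ c ∈ (P : Subgroup L) ⊓ centralizer ((P : Subgroup L) : Set L),
      m * c * m⁻¹ ∈ (P : Subgroup L) ⊓ centralizer ((P : Subgroup L) : Set L) := by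
    intro m hm c hc
    refine mem_inf.mpr ⟨(mem_normalizer_iff.mp hm c).mp (mem_inf.mp hc).1,
      mem_centralizer_iff.mpr fun b hb => ?_⟩
    have hb' : m⁻¹ * b * m ∈ (P : Subgroup L) := (mem_normalizer_iff''.mp hm b).mp hb
    calc b * (m * c * m⁻¹) = m * ((m⁻¹ * b * m) * c) * m⁻¹ := by group
      _ = m * (c * (m⁻¹ * b * m)) * m⁻¹ := by rw [mem_centralizer_iff.mp (mem_inf.mp hc).2 _ hb']
      _ = m * c * m⁻¹ * b := by group
  intro m hm
  rw [mem_normalizer_iff]
  refine fun c => ⟨key m hm c, fun h => ?_⟩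
  have := key m⁻¹ (inv_mem hm) _ h
  simpa [mul_assoc] using this

namespace Ctx

variable (C : Ctx p P x)
include C

/-- If the `p`-elements of `N(D)` generate a subgroup acting on `D` as a `p`-group then `D = P`. -/
theorem eq_of_gCond {D : Subgroup L} (hD : GCond P D)
    (h : ∀ g ∈ closure {s | s ∈ normalizer (D : Set L) ∧ ∃ k, orderOf s ∣ p ^ k},
      (orderOf g).Coprime p → g ∈ centralizer (D : Set L)) : D = (P : Subgroup L) := by
  by_contra hne
  obtain ⟨t, ht, htD⟩ :=
    SetLike.exists_of_lt (lt_inf_normalizer_of_isPGroup P.2 (lt_of_le_of_ne hD.le hne))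
  refine htD (mem_of_nu hD ((closure_le _).mpr fun s hs => hs.1) ?_ h
    (subset_closure ⟨ht.2, orderOf_dvd_of_mem P.2 ht.1⟩) ht.1)
  intro n hn g hg
  induction hg using closure_induction with
  | mem s hs =>
    refine subset_closure ⟨mul_mem (mul_mem hn hs.1) (inv_mem hn), ?_⟩
    obtain ⟨k, hk⟩ := hs.2
    exact ⟨k, by rwa [show n * s * n⁻¹ = MulAut.conj n s from rfl, MulEquiv.orderOf_eq]⟩
  | one => rw [mul_one, mul_inv_cancel]; exact one_mem _
  | mul a b _ _ iha ihb => rw [← conj_mul]; exact mul_mem iha ihb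
  | inv a _ iha =>
    rw [show n * a⁻¹ * n⁻¹ = (n * a * n⁻¹)⁻¹ by group]
    exact inv_mem iha

/-- With a metacyclic `P` every member of the family is `P`. -/
theorem eq_of_metacyclic (hm : Cfsg.IsMetacyclic (P : Subgroup L)) {D : Subgroup L}
    (hD : GCond P D) : D = (P : Subgroup L) := by
  rcases C.radical (P.2.to_le hD.le) (C.mem_gCond hD) with h | ⟨W, hWD, hWc, hWexp, -, -, -⟩
  · exact C.eq_of_gCond hD h
  exfalso
  have hWP : W ≤ (P : Subgroup L) := hWD.trans hD.le
  have h := RankTwo.card_le_of_exponent_metacyclic C.hp2 (P.2.to_le hWP)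
    (Metacyclic.isMetacyclic_of_injective hm (inclusion hWP) (inclusion_injective hWP))
    (fun w : W => Subtype.ext (by simpa using hWexp w w.2))
  rw [hWc] at h
  exact absurd ((Nat.pow_le_pow_iff_right hp.out.one_lt).mp h) (by norm_num)

theorem not_metacyclic (hm : Cfsg.IsMetacyclic (P : Subgroup L)) : False := by
  classical
  set N := normalizer ((P : Subgroup L) : Set L) with hN
  have hPH : (P : Subgroup L) ≤ ⁅(P : Subgroup L), N⁆ := C.le_of_family fun D hD a ha n hn => by
    obtain rfl := C.eq_of_metacyclic hm hD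
    exact mem_H_of_normalizer ha hn
  -- the derived subgroup is central
  set D1 := ⁅(P : Subgroup L), (P : Subgroup L)⁆ with hD1
  haveI hcyc : IsCyclic D1 := RankTwo.isCyclic_commutator_of_metacyclic hm
  have hND1 : N ≤ normalizer (D1 : Set L) := by
    intro n hn
    rw [mem_normalizer_iff_map_conj_eq, hD1, map_commutator, mem_normalizer_iff_map_conj_eq.mp hn]
  have haut : ∀ a b : MulAut D1, a * b = b * a := by
    intro a b
    obtain ⟨m, hm'⟩ := MonoidHom.map_cyclic (a : MulAut D1).toMonoidHom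
    obtain ⟨l, hl⟩ := MonoidHom.map_cyclic (b : MulAut D1).toMonoidHom
    have hma : ∀ z, a z = z ^ m := hm'
    have hlb : ∀ z, b z = z ^ l := hl
    apply MulEquiv.ext
    intro z
    show a (b z) = b (a z)
    rw [hma, hlb, hlb, hma, ← zpow_mul, ← zpow_mul, Int.mul_comm]
  have hcent : (P : Subgroup L) ≤ centralizer (D1 : Set L) := by
    refine hPH.trans (commutator_le.mpr fun a ha n hn => ?_)
    set φ := D1.normalizerMonoidHom with hφ
    set a' : normalizer (D1 : Set L) := ⟨a, hND1 (Subgroup.le_normalizer ha)⟩ with ha'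
    set n' : normalizer (D1 : Set L) := ⟨n, hND1 hn⟩ with hn'
    have h1 : φ ⁅a', n'⁆ = 1 := by
      rw [map_commutatorElement]
      exact commutatorElement_eq_one_iff_mul_comm.mpr (haut _ _)
    rw [mem_centralizer_iff]
    intro d hd
    have h2 := congrArg Subtype.val (DFunLike.congr_fun h1 (⟨d, hd⟩ : D1))
    exact (mul_inv_eq_iff_eq_mul.mp (h2 : ⁅a, n⁆ * d * ⁅a, n⁆⁻¹ = d)).symm
  have hc : ∀ a ∈ (P : Subgroup L), ∀ d ∈ D1, Commute d a :=
    fun a ha d hd => mem_centralizer_iff.mp (hcent ha) d hd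
  set q := Nat.card D1 with hq
  have hdq : ∀ d ∈ D1, d ^ q = 1 := fun d hd => by
    exact (SubmonoidClass.coe_pow (⟨d, hd⟩ : D1) q).symm.trans
      (congrArg Subtype.val (pow_card_eq_one' (x := (⟨d, hd⟩ : D1))))
  obtain ⟨r, hr⟩ := (P.2.to_le (show D1 ≤ (P : Subgroup L) from commutator_le_self _)).exists_card_eq
  have hqodd : Odd q := by rw [hq, hr]; exact (hp.out.odd_of_ne_two C.hp2).pow
  have hch : q ∣ q.choose 2 := by
    obtain ⟨t, ht⟩ := hqodd
    refine ⟨t, ?_⟩
    rw [Nat.choose_two_right, ht, show (2 * t + 1) * (2 * t + 1 - 1) = 2 * ((2 * t + 1) * t) by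
      rw [Nat.add_sub_cancel]; ring, Nat.mul_div_cancel_left _ (by norm_num)]
  have hmul : ∀ a ∈ (P : Subgroup L), ∀ b ∈ (P : Subgroup L), (a * b) ^ q = a ^ q * b ^ q := by
    intro a ha b hb
    have hd : ⁅b, a⁆ ∈ D1 := commutator_mem_commutator hb ha
    obtain ⟨t, ht⟩ := hch
    rw [Fusion.mul_pow_of_commute_commutator (hc a ha _ hd) (hc b hb _ hd), ht, pow_mul, hdq _ hd,
      one_pow, mul_one]
  set Zc := (P : Subgroup L) ⊓ centralizer ((P : Subgroup L) : Set L) with hZc
  have hqc : ∀ a ∈ (P : Subgroup L), a ^ q ∈ Zc := by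
    intro a ha
    refine mem_inf.mpr ⟨pow_mem ha _, mem_centralizer_iff.mpr fun b hb => ?_⟩
    have hd : ⁅b, a⁆ ∈ D1 := commutator_mem_commutator hb ha
    have h1 : b * a ^ q * b⁻¹ = a ^ q := by
      rw [← conj_pow, show b * a * b⁻¹ = ⁅b, a⁆ * a by rw [commutatorElement_def]; group,
        (hc a ha _ hd).mul_pow, hdq _ hd, one_mul]
    exact mul_inv_eq_iff_eq_mul.mp h1
  letI : CommGroup Zc :=
    { (inferInstance : Group Zc) with
      mul_comm := fun a b => Subtype.ext (mem_centralizer_iff.mp (mem_inf.mp b.2).2 _ (mem_inf.mp a.2).1) }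
  -- the averaged power map
  set φ : N →* MulAut Zc :=
    Zc.normalizerMonoidHom.comp (inclusion normalizer_le_normalizer_center) with hφ
  set Q := φ.range with hQ
  letI : Fintype Q := Fintype.ofFinite Q
  have hQcop : (Nat.card Q).Coprime p := by
    refine (hp.out.coprime_iff_not_dvd.mpr fun hd => ?_).symm
    have hker : (P : Subgroup L).subgroupOf N ≤ φ.ker := by
      intro s hs
      rw [MonoidHom.mem_ker]
      refine MulEquiv.ext fun z => Subtype.ext ?_
      show (s : L) * z * (s : L)⁻¹ = z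
      rw [mem_centralizer_iff.mp (mem_inf.mp z.2).2 _ (mem_subgroupOf.mp hs), mul_inv_cancel_right]
    rw [← index_ker] at hd
    exact P.not_dvd_index ((hd.trans (index_dvd_of_le hker)).trans
      (relIndex_dvd_index_of_le Subgroup.le_normalizer))
  let f : (P : Subgroup L) →* Zc :=
    MonoidHom.mk' (fun a => ⟨(a : L) ^ q, hqc a a.2⟩) fun a b => Subtype.ext (hmul a a.2 b b.2)
  let ν : Zc →* Zc :=
    MonoidHom.mk' (fun z => ∏ s : Q, (s : MulAut Zc) z) fun a b => by
      simp only [map_mul, Finset.prod_mul_distrib]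
  have hν : ∀ (s : Q) (z : Zc), ν ((s : MulAut Zc) z) = ν z := fun s z =>
    Fintype.prod_equiv (Equiv.mulRight s) _ _ fun t => rfl
  have hkill : ∀ a : (P : Subgroup L), ν (f a) = 1 := by
    have hle : (P : Subgroup L) ≤ (ν.comp f).ker.map (P : Subgroup L).subtype := by
      refine hPH.trans (commutator_le.mpr fun a ha n hn => ?_)
      have hm' : n * a⁻¹ * n⁻¹ ∈ (P : Subgroup L) := (mem_normalizer_iff.mp hn _).mp (inv_mem ha)
      refine ⟨⟨a, ha⟩ * ⟨_, hm'⟩, ?_, ?_⟩
      · rw [SetLike.mem_coe, MonoidHom.mem_ker, MonoidHom.comp_apply, map_mul, map_mul]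
        have e : f ⟨_, hm'⟩ = φ ⟨n, hn⟩ (f ⟨a, ha⟩)⁻¹ := by
          apply Subtype.ext
          show (n * a⁻¹ * n⁻¹) ^ q = n * (a ^ q)⁻¹ * n⁻¹
          rw [conj_pow, inv_pow]
        rw [e, hν ⟨φ ⟨n, hn⟩, ⟨⟨n, hn⟩, rfl⟩⟩, map_inv, mul_inv_cancel]
      · show a * (n * a⁻¹ * n⁻¹) = ⁅a, n⁆
        rw [commutatorElement_def]; group
    intro a
    obtain ⟨b, hb, hba⟩ := hle a.2
    rw [show a = b from Subtype.ext hba.symm]
    exact hb
  have hxf : ∀ a : (P : Subgroup L), (a : L) ^ q ≠ x := by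
    intro a hax
    have hx' : x ∈ Zc := hax ▸ hqc a a.2
    have h1 := hkill a
    rw [show f a = ⟨x, hx'⟩ from Subtype.ext hax] at h1
    have h2 : ν ⟨x, hx'⟩ = (⟨x, hx'⟩ : Zc) ^ Nat.card Q := by
      show ∏ s : Q, (s : MulAut Zc) (⟨x, hx'⟩ : Zc) = _
      rw [Finset.prod_eq_pow_card (b := (⟨x, hx'⟩ : Zc)), Finset.card_univ, Nat.card_eq_fintype_card]
      rintro ⟨_, n, rfl⟩ -
      exact Subtype.ext (C.fix P.2 C.mem n.2)
    rw [h2] at h1
    have h3 : x ^ Nat.card Q = 1 := by simpa using congrArg Subtype.val h1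
    have h4 := orderOf_dvd_of_pow_eq_one h3
    rw [C.ord] at h4
    exact hp.out.one_lt.ne' (hQcop.symm.eq_one_of_dvd h4)
  -- a cyclic normal subgroup with cyclic quotient
  obtain ⟨A, hAn, hAc, hAq⟩ := hm
  haveI := hAn
  haveI := hAc
  haveI := hAq
  have hcA : _root_.commutator (P : Subgroup L) ≤ A := by
    rw [_root_.commutator_def, commutator_le]
    intro a _ b _
    rw [← QuotientGroup.eq_one_iff, ← QuotientGroup.mk'_apply, map_commutatorElement,
      commutatorElement_eq_one_iff_mul_comm]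
    obtain ⟨g, hg⟩ := hAq.exists_generator
    obtain ⟨i, hi⟩ := mem_zpowers_iff.mp (hg (QuotientGroup.mk' A a))
    obtain ⟨l, hl⟩ := mem_zpowers_iff.mp (hg (QuotientGroup.mk' A b))
    rw [← hi, ← hl]
    exact ((Commute.refl g).zpow_zpow i l).eq
  have hx1 : (⟨x, C.mem⟩ : (P : Subgroup L)) ∈ _root_.commutator (P : Subgroup L) :=
    SqClass.mem_commutator_of_isolated C.perf P C.mem C.iso
  obtain ⟨h, hh⟩ := IsCyclic.exists_generator (α := A)
  by_cases hhq : h ^ q = 1
  · have hcard : Nat.card A ≤ Nat.card (_root_.commutator (P : Subgroup L)) := by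
      rw [← card_map_of_injective (P : Subgroup L).subtype_injective
        (K := _root_.commutator (P : Subgroup L)), map_subtype_commutator, ← hD1, ← hq,
        ← orderOf_eq_card_of_forall_mem_zpowers hh]
      exact Nat.le_of_dvd Nat.card_pos (orderOf_dvd_of_pow_eq_one hhq)
    have hAcen : A ≤ center (P : Subgroup L) := by
      rw [← eq_of_le_of_card_ge hcA hcard]
      intro d hd
      have hd' : (d : L) ∈ D1 := by
        rw [hD1, ← map_subtype_commutator]; exact ⟨d, hd, rfl⟩
      exact mem_center_iff.mpr fun a => Subtype.ext (hc a a.2 _ hd').eq.symm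
    have hab := commutative_of_cyclic_center_quotient (QuotientGroup.mk' A)
      (by rw [QuotientGroup.ker_mk']; exact hAcen)
    have h0 : _root_.commutator (P : Subgroup L) = ⊥ := by
      rw [eq_bot_iff, _root_.commutator_def, commutator_le]
      intro a _ b _
      exact mem_bot.mpr (commutatorElement_eq_one_iff_mul_comm.mpr (hab a b))
    rw [h0, mem_bot] at hx1
    exact C.ne_one (congrArg Subtype.val hx1)
  · obtain ⟨k, hk⟩ := IsPGroup.iff_orderOf.mp (P.2.to_subgroup A) (h ^ q)
    rcases k with _ | k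
    · exact hhq (orderOf_eq_one_iff.mp (by rwa [pow_zero] at hk))
    set y := (h ^ q) ^ p ^ k with hy
    have hyo : orderOf y = p := by
      rw [hy, orderOf_pow_of_dvd (pow_ne_zero _ hp.out.ne_zero) (hk ▸ pow_dvd_pow p (Nat.le_succ k)), hk,
        Nat.pow_div (Nat.le_succ k) hp.out.pos, Nat.succ_sub (le_refl k), Nat.sub_self, pow_one]
    have hyp : (y : (P : Subgroup L)) ^ p = 1 := by
      have := congrArg Subtype.val (pow_orderOf_eq_one y)
      rwa [hyo] at this
    have hy1 : (y : (P : Subgroup L)) ≠ 1 := fun e => hp.out.one_lt.ne (by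
      rw [← hyo, show y = 1 from Subtype.ext e, orderOf_one])
    obtain ⟨i, hi⟩ := mem_zpowers_iff.mp (RankTwo.eq_zpow_of_cyclic y.2 hy1 hyp (hcA hx1)
      (Subtype.ext C.pow_p))
    refine hxf (((h : (P : Subgroup L)) ^ p ^ k) ^ i) ?_
    have e : ((((h : (P : Subgroup L)) ^ p ^ k) ^ i) ^ q) = (y : (P : Subgroup L)) ^ i := by
      rw [hy, SubmonoidClass.coe_pow, SubmonoidClass.coe_pow, ← pow_mul, ← zpow_natCast,
        ← zpow_natCast (h : (P : Subgroup L)), ← zpow_natCast (h : (P : Subgroup L)), ← zpow_mul,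
        ← zpow_mul, ← zpow_mul]
      congr 1
      push_cast
      ring
    rw [← SubmonoidClass.coe_pow, e, hi]

end Ctx

end Cfsg.Agent.IsolatedRankTwo
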