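import Cfsg.Agent.IsolatedRankTwo.Basic
import Cfsg.Agent.RankTwo.Generators
import Cfsg.Agent.RankTwo.Structure

/-!
# The power map kills the non-metacyclic families with a long cyclic part

For `C(E) = E⟨c⟩` with `c` of order at least `p ^ 2` the map `a ↦ a ^ p` is a homomorphism of `P` into
its cyclic centre modulo a subgroup, which a perfect group with an isolated element cannot have.
-/

set_option autoImplicit false
set_option linter.all false

namespace Cfsg.Agent.IsolatedRankTwo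

open Subgroup
open scoped commutatorElement

universe u

variable {p : ℕ} [hp : Fact p.Prime]

section PGroup

variable {G : Type u} [Group G] [Finite G] {E Z : Subgroup G}

theorem mul_pow_two_step {h v d e : G} (h1 : v * h * v⁻¹ = h * d) (h2 : v * d * v⁻¹ = d * e)
    (hhd : Commute h d) (he : ∀ g : G, Commute e g) :
    ∀ n : ℕ, (h * v) ^ n = h ^ n * d ^ (n.choose 2) * e ^ (n.choose 3) * v ^ n := by
  intro n
  induction n with
  | zero => simp
  | succ n ih =>
    have hde : Commute d e := (he d).symm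
    have hve : v * e ^ (n.choose 3) * v⁻¹ = e ^ (n.choose 3) := by
      rw [← ((he v).pow_left (n.choose 3)).eq, mul_inv_cancel_right]
    calc (h * v) ^ (n + 1) = h * v * (h * v) ^ n := pow_succ' _ _
      _ = h * ((v * h * v⁻¹) ^ n * (v * d * v⁻¹) ^ (n.choose 2) * (v * e ^ (n.choose 3) * v⁻¹)) *
          (v * v ^ n) := by rw [ih, conj_pow, conj_pow]; group
      _ = h * ((h ^ n * d ^ n) * (d ^ (n.choose 2) * e ^ (n.choose 2)) * e ^ (n.choose 3)) *
          v ^ (n + 1) := by rw [h1, h2, hhd.mul_pow, hde.mul_pow, hve, ← pow_succ']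
      _ = h ^ (n + 1) * d ^ ((n + 1).choose 2) * e ^ ((n + 1).choose 3) * v ^ (n + 1) := by
          rw [pow_succ' h n, Nat.choose_succ_succ n 1, Nat.choose_one_right,
            Nat.choose_succ_succ n 2, pow_add, pow_add]
          group

/-- What `Ctx.false_of_powerMap` needs of the Sylow subgroup. -/
theorem powerData (F : RankTwo.Frame p E Z) (hG : IsPGroup p G) (hp2 : p ≠ 2) {u c : G} {k : ℕ}
    (hu : u ^ p = 1) (huC : u ∉ centralizer (E : Set G)) (D : RankTwo.GenData p E Z u c k)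
    (hk : 1 ≤ k)
    (hflat : k = 1 → p = 3 → ∃ d ∈ centralizer (E : Set G), Commute u d ∧ d ^ p ∈ Z ∧
      ∀ y ∈ Z, ∃ i : ℤ, (d ^ i) ^ p = y) :
    IsCyclic (center G) ∧ ∃ K : Subgroup G, K ≤ center G ∧ (∀ a : G, a ^ p ∈ center G) ∧
      (∀ a b : G, (a * b) ^ p * (a ^ p * b ^ p)⁻¹ ∈ K) ∧ ∃ a : G, a ^ p ∉ K := by
  haveI hCn := F.normal_centralizer
  haveI := F.En
  set A := centralizer (E : Set G) with hA
  have hcom := F.comm_of_sup D.sup
  have hcA : c ∈ A := D.sup.le (mem_sup_right (mem_zpowers c))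
  have hEA : E ≤ A := F.le_centralizer
  have hdec : ∀ h ∈ A, ∃ e ∈ E, ∃ i : ℤ, h = e * c ^ i := by
    intro h hh
    rw [hA, ← D.sup, ← SetLike.mem_coe, normal_mul] at hh
    obtain ⟨e, he, y, hy, rfl⟩ := hh
    obtain ⟨i, rfl⟩ := mem_zpowers_iff.mp hy
    exact ⟨e, he, i, rfl⟩
  have hhp : ∀ h ∈ A, ∃ i : ℤ, h ^ p = (c ^ p) ^ i := by
    intro h hh
    obtain ⟨e, he, i, rfl⟩ := hdec h hh
    refine ⟨i, ?_⟩
    rw [((hcom e (hEA he) c hcA).zpow_right i).mul_pow, F.Eexp e he, one_mul, ← zpow_natCast,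
      ← zpow_natCast c p, ← zpow_mul, ← zpow_mul, Int.mul_comm]
  have hcenA : ∀ z : G, z ∈ center G → z ∈ A := fun z hz =>
    mem_centralizer_iff.mpr fun e _ => mem_center_iff.mp hz e
  have hcp : c ^ p ∈ center G := by
    set w := c⁻¹ * (u * c * u⁻¹) with hw
    have hwE : w ∈ E := by
      rw [show w = c⁻¹ * ⁅u, c⁆ * c⁻¹⁻¹ by rw [hw, commutatorElement_def]; group]
      exact F.En.conj_mem _ D.comm _
    have huc : u * c ^ p * u⁻¹ = c ^ p := by
      rw [← conj_pow, show u * c * u⁻¹ = c * w by rw [hw, mul_inv_cancel_left],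
        (hcom c hcA w (hEA hwE)).mul_pow, F.Eexp w hwE, mul_one]
    have hle : A ⊔ zpowers u ≤ centralizer {c ^ p} := sup_le
      (fun a ha => mem_centralizer_singleton_iff.mpr (hcom a ha _ (pow_mem hcA p)).eq)
      (zpowers_le.mpr (mem_centralizer_singleton_iff.mpr (mul_inv_eq_iff_eq_mul.mp huc)))
    rw [F.sup_eq_top hG huC] at hle
    exact mem_center_iff.mpr fun g => mem_centralizer_singleton_iff.mp (hle (mem_top g))
  have hcen : ∀ h ∈ A, h ^ p ∈ center G := fun h hh => by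
    obtain ⟨i, hi⟩ := hhp h hh
    rw [hi]; exact zpow_mem hcp i
  refine ⟨RankTwo.isCyclic_of_omega_small hp2 (hG.to_subgroup _) F.Zc.le
    (fun z hz hzp => F.inf_center z (F.omega z (hcenA z hz) hzp) hz), ?_⟩
  obtain ⟨K, hKZ, hKone, hcK⟩ : ∃ K : Subgroup G, K ≤ Z ∧ (k = 1 ∨ K = Z) ∧ c ^ p ∉ K := by
    by_cases hk1 : k = 1
    · refine ⟨⊥, bot_le, Or.inl hk1, fun h => ?_⟩
      have h1 := orderOf_dvd_of_pow_eq_one (mem_bot.mp h)
      rw [D.order, hk1] at h1
      exact absurd ((Nat.pow_dvd_pow_iff_le_right (l := 1) hp.out.one_lt).mp (by rwa [pow_one]))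
        (by norm_num : ¬ (1 + 1 ≤ 1))
    · refine ⟨Z, le_rfl, Or.inr rfl, fun h => ?_⟩
      have h1 := F.Eexp _ (F.Zle h)
      rw [← pow_mul, ← pow_two] at h1
      have h2 := orderOf_dvd_of_pow_eq_one h1
      rw [D.order] at h2
      have := (Nat.pow_dvd_pow_iff_le_right hp.out.one_lt).mp h2
      omega
  have hKc : K ≤ center G := hKZ.trans F.Zcen
  have key : ∀ h ∈ A, ∀ i : ℤ, (h * u ^ i) ^ p * (h ^ p)⁻¹ ∈ K := by
    intro h hh i
    set v := u ^ i with hv
    have hvp : v ^ p = 1 := by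
      rw [hv, ← zpow_natCast, ← zpow_mul, Int.mul_comm, zpow_mul, zpow_natCast, hu, one_zpow]
    set d := h⁻¹ * (v * h * v⁻¹) with hd
    have hdE : d ∈ E := by
      set π := QuotientGroup.mk' E with hπ
      have huc : Commute (π u) (π c) := commutatorElement_eq_one_iff_commute.mp (by
        rw [← map_commutatorElement]; exact (QuotientGroup.eq_one_iff _).mpr D.comm)
      obtain ⟨e, he, j, rfl⟩ := hdec h hh
      refine (QuotientGroup.eq_one_iff _).mp ?_
      show π d = 1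
      rw [hd, map_mul, map_mul, map_mul, map_inv, map_inv, map_mul,
        show π e = 1 from (QuotientGroup.eq_one_iff _).mpr he, one_mul, hv, map_zpow, map_zpow,
        (huc.zpow_zpow i j).eq, mul_inv_cancel_right, inv_mul_cancel]
    have hhd : Commute h d := hcom h hh d (hEA hdE)
    have he : ⁅v, d⁆ ∈ Z := F.comm v d hdE
    have h2 : v * d * v⁻¹ = d * ⁅v, d⁆ := by
      rw [← (F.Zcomm he d).eq, commutatorElement_def]; group
    rw [mul_pow_two_step (show v * h * v⁻¹ = h * d by rw [hd, mul_inv_cancel_left]) h2 hhd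
      (F.Zcomm he) p, hvp, mul_one, RankTwo.choose_two_kill hp2 (F.Eexp d hdE), mul_one,
      (mem_center_iff.mp (F.Zcen (Subgroup.pow_mem _ he _)) (h ^ p)), mul_inv_cancel_right]
    rcases hKone with hk1 | rfl
    · rcases Nat.lt_or_ge 3 p with hp3 | hp3
      · obtain ⟨t, ht⟩ := hp.out.dvd_choose_self (k := 3) (by norm_num) hp3
        rw [ht, pow_mul, F.Eexp _ (F.Zle he), one_pow]
        exact one_mem _
      · have hp' : p = 3 := by have := hp.out.two_le; omega
        obtain ⟨d₀, hd₀, hud, hdZ, hgen⟩ := hflat hk1 hp'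
        have hhZ : h ^ p ∈ Z := by
          obtain ⟨j, hj⟩ := hhp h hh
          rw [hj]
          refine zpow_mem ?_ j
          have := D.top
          rwa [hk1, pow_one] at this
        obtain ⟨e₁, he₁, j, hj⟩ := F.layer_mem hG hp2 hd₀ hdZ hgen hh hhZ
        obtain ⟨t, ht, htd⟩ := F.conj_layer (hud.zpow_left i) he₁ j
        rw [← hv, ← hj] at htd
        have hdZ' : d ∈ Z := by rw [hd, htd, inv_mul_cancel_left]; exact ht
        rw [commutatorElement_eq_one_iff_commute.mpr (F.Zcomm hdZ' v).symm, one_pow]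
        exact one_mem _
    · exact Subgroup.pow_mem _ he _
  have hrep : ∀ g : G, ∃ h ∈ A, ∃ i : ℤ, g = h * u ^ i := by
    intro g
    have hg : g ∈ A ⊔ zpowers u := by rw [F.sup_eq_top hG huC]; exact mem_top g
    rw [← SetLike.mem_coe, normal_mul] at hg
    obtain ⟨h, hh, y, hy, rfl⟩ := hg
    obtain ⟨i, rfl⟩ := mem_zpowers_iff.mp hy
    exact ⟨h, hh, i, rfl⟩
  refine ⟨K, hKc, fun a => ?_, fun a b => ?_, c, hcK⟩
  · obtain ⟨h, hh, i, rfl⟩ := hrep a
    have := mul_mem (hKc (key h hh i)) (hcen h hh)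
    rwa [inv_mul_cancel_right] at this
  · obtain ⟨h, hh, i, rfl⟩ := hrep a
    obtain ⟨h', hh', j, rfl⟩ := hrep b
    set h'' := u ^ i * h' * (u ^ i)⁻¹ with hh''
    have hh''A : h'' ∈ A := hCn.conj_mem _ hh' _
    have hp' : h'' ^ p = h' ^ p := by
      rw [hh'', conj_pow, mem_center_iff.mp (hcen h' hh') (u ^ i), mul_inv_cancel_right]
    rw [show h * u ^ i * (h' * u ^ j) = h * h'' * u ^ (i + j) by rw [hh'', zpow_add]; group]
    have k1 := key (h * h'') (mul_mem hh hh''A) (i + j)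
    have k2 := key h hh i
    have k3 := key h' hh' j
    rw [(hcom h hh h'' hh''A).mul_pow, hp'] at k1
    obtain ⟨x1, hx1, e1⟩ : ∃ x1 ∈ K, (h * h'' * u ^ (i + j)) ^ p = x1 * (h ^ p * h' ^ p) :=
      ⟨_, k1, (inv_mul_cancel_right _ _).symm⟩
    obtain ⟨x2, hx2, e2⟩ : ∃ x2 ∈ K, (h * u ^ i) ^ p = x2 * h ^ p :=
      ⟨_, k2, (inv_mul_cancel_right _ _).symm⟩
    obtain ⟨x3, hx3, e3⟩ : ∃ x3 ∈ K, (h' * u ^ j) ^ p = x3 * h' ^ p :=
      ⟨_, k3, (inv_mul_cancel_right _ _).symm⟩
    rw [e1, e2, e3, show x2 * h ^ p * (x3 * h' ^ p) = x2 * (h ^ p * x3) * h' ^ p by group,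
      mem_center_iff.mp (hKc hx3) (h ^ p),
      show x1 * (h ^ p * h' ^ p) * (x2 * (x3 * h ^ p) * h' ^ p)⁻¹ = x1 * (x3⁻¹ * x2⁻¹) by group]
    exact mul_mem hx1 (mul_mem (inv_mem hx3) (inv_mem hx2))

end PGroup

variable {L : Type u} [Group L] [Finite L] {P : Sylow p L} {x : L}

theorem Ctx.false_of_powerMap (C : Ctx p P x)
    (hcyc : IsCyclic (center (P : Subgroup L))) {K : Subgroup (P : Subgroup L)}
    (hK : K ≤ center (P : Subgroup L)) (hpow : ∀ a : (P : Subgroup L), a ^ p ∈ center (P : Subgroup L))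
    (hmul : ∀ a b : (P : Subgroup L), (a * b) ^ p * (a ^ p * b ^ p)⁻¹ ∈ K)
    (hne : ∃ a : (P : Subgroup L), a ^ p ∉ K) : False := by
  haveI := hcyc
  set Zc := (P : Subgroup L) ⊓ centralizer ((P : Subgroup L) : Set L) with hZc
  have hZeq : (center (P : Subgroup L)).map (P : Subgroup L).subtype = Zc := by
    ext z
    constructor
    · rintro ⟨a, ha, rfl⟩
      exact mem_inf.mpr ⟨a.2, mem_centralizer_iff.mpr fun b hb =>
        congrArg Subtype.val (mem_center_iff.mp ha ⟨b, hb⟩)⟩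
    · intro hz
      exact ⟨⟨z, (mem_inf.mp hz).1⟩, mem_center_iff.mpr fun b =>
        Subtype.ext (mem_centralizer_iff.mp (mem_inf.mp hz).2 b b.2), rfl⟩
  haveI : IsCyclic Zc := hZeq ▸ isCyclic_of_surjective _
    ((P : Subgroup L).subtype.subgroupMap_surjective (center (P : Subgroup L)))
  let H : Subgroup (P : Subgroup L) :=
    { carrier := {a | a ^ p ∈ K}
      one_mem' := by simp [one_mem]
      mul_mem' := fun {a b} ha hb => by
        have := mul_mem (hmul a b) (mul_mem (show a ^ p ∈ K from ha) (show b ^ p ∈ K from hb))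
        rwa [inv_mul_cancel_right] at this
      inv_mem' := fun {a} ha => by
        show a⁻¹ ^ p ∈ K
        rw [inv_pow]; exact inv_mem ha }
  have h1 : (P : Subgroup L) ≤ H.map (P : Subgroup L).subtype := by
    refine C.le_of_focal fun a ha g hg => ⟨⟨a, ha⟩⁻¹ * ⟨_, hg⟩, ?_, rfl⟩
    set a' : (P : Subgroup L) := ⟨a, ha⟩
    set b' : (P : Subgroup L) := ⟨_, hg⟩
    have h2 : a' ^ p = b' ^ p := by
      apply Subtype.ext
      have ha2 : (a : L) ^ p ∈ Zc := hZeq ▸ ⟨_, hpow a', rfl⟩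
      have hb2 : (g * a * g⁻¹) ^ p ∈ Zc := hZeq ▸ ⟨_, hpow b', rfl⟩
      rw [conj_pow] at hb2
      show a ^ p = (g * a * g⁻¹) ^ p
      rw [conj_pow, C.eq_of_conj_center ha2 hb2]
    show (a'⁻¹ * b') ^ p ∈ K
    have := hmul a'⁻¹ b'
    rwa [inv_pow, h2, inv_mul_cancel, inv_one, mul_one] at this
  obtain ⟨a, ha⟩ := hne
  obtain ⟨b, hb, hba⟩ := h1 a.2
  rw [show b = a from Subtype.ext hba] at hb
  exact ha hb

end Cfsg.Agent.IsolatedRankTwo
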