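import Cfsg.Agent.IsolatedRankTwo.Basic
import Cfsg.Agent.Fusion.RankTwoAut
import Cfsg.Agent.Coprime.Series
import Cfsg.Agent.OddLocal.StabFactors

/-!
# Local subgroups around an isolated element

The normalizer of a `p`-subgroup `R` containing `x` is, apart from a normal subgroup acting on `R` as
a `p`-group, trivial, unless `R` has a normal extraspecial subgroup of order `p ^ 3` and exponent `p`
on whose central quotient `R` acts trivially.
-/

set_option autoImplicit false
set_option linter.all false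

namespace Cfsg.Agent.IsolatedRankTwo

open Subgroup Cfsg.Agent.Fusion
open scoped commutatorElement

universe u

variable {p : ℕ} {L : Type u} [Group L] [Finite L] [hp : Fact p.Prime] {P : Sylow p L} {x : L}

theorem relIndex_dvd_of_card {A B : Subgroup L} (hB : IsPGroup p B) (hAB : A ≤ B)
    (h : Nat.card B ≤ p * Nat.card A) : A.relIndex B ∣ p := by
  have h1 := relIndex_mul_relIndex ⊥ A B bot_le hAB
  rw [relIndex_bot_left, relIndex_bot_left] at h1
  obtain ⟨k, hk⟩ := hB.exists_card_eq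
  obtain ⟨j, -, hj⟩ := (Nat.dvd_prime_pow hp.out).mp (show A.relIndex B ∣ p ^ k by
    rw [← hk, ← h1]; exact dvd_mul_left _ _)
  rw [← h1, hj, Nat.mul_comm] at h
  have h2 : p ^ j ≤ p ^ 1 := by
    rw [pow_one]
    exact Nat.le_of_mul_le_mul_right h Nat.card_pos
  rw [hj]
  exact (pow_dvd_pow p ((Nat.pow_le_pow_iff_right hp.out.one_lt).mp h2)).trans (pow_one p).dvd

theorem isPGroup_zpowers_of_dvd {a : L} (h : ∃ k, orderOf a ∣ p ^ k) : IsPGroup p (zpowers a) := by
  obtain ⟨k, hk⟩ := h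
  obtain ⟨j, -, hj⟩ := (Nat.dvd_prime_pow hp.out).mp hk
  exact IsPGroup.of_card (by rw [Nat.card_zpowers, hj])

theorem orderOf_dvd_of_mem {R : Subgroup L} (hR : IsPGroup p R) {a : L} (ha : a ∈ R) :
    ∃ k, orderOf a ∣ p ^ k := by
  obtain ⟨k, hk⟩ := IsPGroup.iff_orderOf.mp hR ⟨a, ha⟩
  exact ⟨k, by rw [← hk, orderOf_mk]⟩

/-- An element which is both a `p`-element and a `p'`-element is trivial. -/
theorem eq_one_of_pElement_coprime {H : Type*} [Group H] {a : H} (h : ∃ k, orderOf a ∣ p ^ k)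
    (h' : (orderOf a).Coprime p) : a = 1 := by
  obtain ⟨k, hk⟩ := h
  exact orderOf_eq_one_iff.mp (Nat.Coprime.eq_one_of_dvd (h'.pow_right k) hk)

/-- The `p`-elements of `N`, and so what they generate, stabilize a step of order `p`. -/
theorem stab_of_pElements {N A B : Subgroup L} (hAN : A ≤ N) (hBA : B ≤ A)
    (hA : ∀ n ∈ N, ∀ a ∈ A, n * a * n⁻¹ ∈ A) (hB : ∀ n ∈ N, ∀ b ∈ B, n * b * n⁻¹ ∈ B)
    (hrel : B.relIndex A ∣ p) :
    ∀ g ∈ closure {s | s ∈ N ∧ ∃ k, orderOf s ∣ p ^ k}, ∀ w ∈ A, ⁅g, w⁆ ∈ B := by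
  suffices h : ∀ g ∈ closure {s | s ∈ N ∧ ∃ k, orderOf s ∣ p ^ k},
      g ∈ N ∧ ∀ w ∈ A, ⁅g, w⁆ ∈ B from fun g hg => (h g hg).2
  intro g hg
  induction hg using closure_induction with
  | mem s hs =>
    refine ⟨hs.1, fun w hw => ?_⟩
    obtain ⟨k, hk⟩ := hs.2
    haveI hAn : (A.subgroupOf N).Normal :=
      ⟨fun a ha n => mem_subgroupOf.mpr (hA n n.2 a (mem_subgroupOf.mp ha))⟩
    haveI hBn : (B.subgroupOf N).Normal :=
      ⟨fun a ha n => mem_subgroupOf.mpr (hB n n.2 a (mem_subgroupOf.mp ha))⟩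
    have hrel' : (B.subgroupOf N).relIndex (A.subgroupOf N) ∣ p := by
      rwa [relIndex_subgroupOf hAN]
    have hs' : (⟨s, hs.1⟩ : N) ^ p ^ k = 1 := Subtype.ext (by
      simpa using orderOf_dvd_iff_pow_eq_one.mp hk)
    simpa [mem_subgroupOf, commutatorElement_def] using
      OddLocal.commutator_mem_of_pow_eq_one hrel' hs' (l := ⟨w, hAN hw⟩) (mem_subgroupOf.mpr hw)
  | one => exact ⟨one_mem _, fun w _ => by rw [commutatorElement_one_left]; exact one_mem _⟩
  | mul a b _ _ iha ihb =>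
    refine ⟨mul_mem iha.1 ihb.1, fun w hw => ?_⟩
    rw [commutatorElement_mul_left_eq_conj_mul]
    exact mul_mem (hB a iha.1 _ (ihb.2 w hw)) (iha.2 w hw)
  | inv a _ iha =>
    refine ⟨inv_mem iha.1, fun w hw => ?_⟩
    rw [show ⁅a⁻¹, w⁆ = a⁻¹ * ⁅a, w⁆⁻¹ * a⁻¹⁻¹ by rw [commutatorElement_def, commutatorElement_def]; group]
    exact hB _ (inv_mem iha.1) _ (inv_mem (iha.2 w hw))

/-- A normal subgroup of `N(D)`, `D` in the Alperin-Goldschmidt family, whose `p'`-elements
centralize `D` meets `P` inside `D`. -/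
theorem mem_of_nu {D Nu : Subgroup L} (hD : GCond P D) (hNu : Nu ≤ normalizer (D : Set L))
    (hinv : ∀ n ∈ normalizer (D : Set L), ∀ g ∈ Nu, n * g * n⁻¹ ∈ Nu)
    (hcop : ∀ g ∈ Nu, (orderOf g).Coprime p → g ∈ centralizer (D : Set L))
    {g : L} (hg : g ∈ Nu) (hgP : g ∈ (P : Subgroup L)) : g ∈ D := by
  set N := normalizer (D : Set L) with hN
  set π := QuotientGroup.mk' (Cfsg.pPrimeCore p N) with hπ
  haveI : (Nu.subgroupOf N).Normal :=
    ⟨fun a ha n => mem_subgroupOf.mpr (hinv n n.2 a (mem_subgroupOf.mp ha))⟩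
  haveI : ((Nu.subgroupOf N).map π).Normal :=
    Subgroup.Normal.map inferInstance π (QuotientGroup.mk'_surjective _)
  have hp' : IsPGroup p ((Nu.subgroupOf N).map π) := by
    rw [isPGroup_iff_orderOf_dvd_pow]
    rintro ⟨_, a, ha, rfl⟩
    obtain ⟨s, t, hst, -, hs, ht, ⟨k, hk⟩, htc⟩ :=
      exists_pPart_mul (p := p) a (isOfFinOrder_of_finite a)
    have htNu : t ∈ Nu.subgroupOf N := zpowers_le.mpr ha ht
    have htM : t ∈ Cfsg.pPrimePCore p N := by
      have h1 := hD.cent (hcop (t : L) (mem_subgroupOf.mp htNu) (by rwa [Subgroup.orderOf_coe]))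
      obtain ⟨t', ht', he⟩ := h1
      rwa [show t = t' from Subtype.ext he.symm]
    have h1 : π t = 1 := eq_one_of_pElement_coprime (p := p)
      (orderOf_dvd_of_mem Core.pCore_isPGroup (mem_comap.mp htM))
      (htc.coprime_dvd_left (orderOf_map_dvd π t))
    refine ⟨k, ?_⟩
    rw [← Subgroup.orderOf_coe]
    show orderOf (π a) ∣ p ^ k
    rw [hst, map_mul, h1, mul_one]
    exact (orderOf_map_dvd π s).trans hk
  have hgM : g ∈ (Cfsg.pPrimePCore p N).map N.subtype :=
    ⟨⟨g, hNu hg⟩, mem_comap.mpr (Core.le_pCore hp' ⟨_, mem_subgroupOf.mpr hg, rfl⟩), rfl⟩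
  obtain ⟨-, -, hcomm, hdis, hsup⟩ := hD.prod
  set K := (Cfsg.pPrimeCore p N).map N.subtype with hK
  rw [← hsup] at hgM
  have hKD : K ≤ normalizer (D : Set L) := map_subtype_le _
  rw [sup_comm, ← SetLike.mem_coe, coe_mul_of_right_le_normalizer_left D K hKD] at hgM
  obtain ⟨d, hd, k, hk, rfl⟩ := hgM
  have hkP : k ∈ (P : Subgroup L) := by simpa using mul_mem (inv_mem (hD.le hd)) hgP
  have hk1 : k = 1 := by
    refine eq_one_of_pElement_coprime (p := p) (orderOf_dvd_of_mem P.2 hkP) ?_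
    refine (Core.coprime_card_pPrimeCore (G := N) (p := p)).coprime_dvd_left ?_
    rw [← card_map_of_injective N.subtype_injective, ← hK]
    exact (orderOf_mk k hk) ▸ orderOf_dvd_natCard (⟨k, hk⟩ : K)
  simpa [hk1] using hd

namespace Ctx

variable (C : Ctx p P x)
include C

theorem mem_gCond {D : Subgroup L} (hD : GCond P D) : x ∈ D := by
  refine mem_of_nu hD (centralizer_le_normalizer _) (fun n hn g hg => ?_) (fun g hg _ => hg)
    (mem_centralizer_iff.mpr fun d hd => (C.comm (hD.le hd)).eq) C.mem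
  rw [mem_centralizer_iff] at hg ⊢
  intro b hb
  have hb' : n⁻¹ * b * n ∈ D := (mem_normalizer_iff''.mp hn b).mp hb
  calc b * (n * g * n⁻¹) = n * ((n⁻¹ * b * n) * g) * n⁻¹ := by group
    _ = n * (g * (n⁻¹ * b * n)) * n⁻¹ := by rw [hg _ hb']
    _ = n * g * n⁻¹ * b := by group

/-- The normal subgroup generated by the `p`-elements of `N(R)` acts on `R` as a `p`-group, or `R`
has the exceptional shape. -/
theorem radical {R : Subgroup L} (hR : IsPGroup p R) (hxR : x ∈ R) :
    (∀ g ∈ closure {s | s ∈ normalizer (R : Set L) ∧ ∃ k, orderOf s ∣ p ^ k},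
      (orderOf g).Coprime p → g ∈ centralizer (R : Set L)) ∨
    ∃ W : Subgroup L, W ≤ R ∧ Nat.card W = p ^ 3 ∧ (∀ w ∈ W, w ^ p = 1) ∧ x ∈ W ∧
      (∃ a ∈ W, ∃ b ∈ W, a * b ≠ b * a) ∧ ∀ r ∈ R, ∀ w ∈ W, ⁅r, w⁆ ∈ zpowers x := by
  classical
  obtain ⟨W, hWc, hexp, -, -, hrW, hfaith⟩ := exists_char_rank_two C.hp2 hR (C.rank_subgroup R)
  set x' : R := ⟨x, hxR⟩ with hx'
  have hx'c : x' ∈ center R := mem_center_iff.mpr fun r => Subtype.ext (C.comm' hR hxR r.2).eq
  have hx'p : x' ^ p = 1 := Subtype.ext (by simpa using C.pow_p)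
  have hX : Nat.card (zpowers x') = p := by
    rw [Nat.card_zpowers, hx', orderOf_mk, C.ord]
  set N := normalizer (R : Set L) with hN
  -- invariance under automorphisms of `R` fixing `x`
  have hinv : ∀ A : Subgroup R, (∀ φ : MulAut R, φ x' = x' → ∀ a ∈ A, φ a ∈ A) →
      ∀ n ∈ N, ∀ a ∈ A.map R.subtype, n * a * n⁻¹ ∈ A.map R.subtype := by
    rintro A hA n hn _ ⟨a, ha, rfl⟩
    exact ⟨_, hA (R.normalizerMonoidHom ⟨n, hn⟩) (Subtype.ext (C.fix hR hxR hn)) a ha, rfl⟩
  have hWinv : ∀ φ : MulAut R, φ x' = x' → ∀ a ∈ W, φ a ∈ W := fun φ _ a ha =>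
    (characteristic_iff_le_comap.mp hWc φ) ha
  have hXinv : ∀ φ : MulAut R, φ x' = x' → ∀ a ∈ zpowers x', φ a ∈ zpowers x' := by
    intro φ hφ a ha
    obtain ⟨i, rfl⟩ := mem_zpowers_iff.mp ha
    rw [map_zpow, hφ]
    exact zpow_mem (mem_zpowers x') i
  -- a chain with steps of order at most `p` gives the first alternative
  have fin : ∀ A1 A2 : Subgroup R, A1 ≤ A2 → A2 ≤ W →
      (∀ φ : MulAut R, φ x' = x' → ∀ a ∈ A1, φ a ∈ A1) →
      (∀ φ : MulAut R, φ x' = x' → ∀ a ∈ A2, φ a ∈ A2) →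
      Nat.card A1 ≤ p → Nat.card A2 ≤ p * Nat.card A1 → Nat.card W ≤ p * Nat.card A2 →
      ∀ g ∈ closure {s | s ∈ N ∧ ∃ k, orderOf s ∣ p ^ k},
        (orderOf g).Coprime p → g ∈ centralizer (R : Set L) := by
    intro A1 A2 h12 h2W hi1 hi2 hc1 hc2 hc3 g hg hgo
    have hgN : g ∈ N := (closure_le _).mpr (fun s hs => hs.1) hg
    set c : Fin 4 → Subgroup L := ![W.map R.subtype, A2.map R.subtype, A1.map R.subtype, ⊥] with hc
    have hcard : ∀ A : Subgroup R, Nat.card (A.map R.subtype) = Nat.card A := fun A =>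
      card_map_of_injective R.subtype_injective
    have hle : ∀ A : Subgroup R, A.map R.subtype ≤ N := fun A =>
      (map_subtype_le A).trans Subgroup.le_normalizer
    have hpA : ∀ A : Subgroup R, IsPGroup p (A.map R.subtype) := fun A => hR.to_le (map_subtype_le A)
    have hbot : ∀ n ∈ N, ∀ b ∈ (⊥ : Subgroup L), n * b * n⁻¹ ∈ (⊥ : Subgroup L) := by
      intro n _ b hb
      rw [mem_bot] at hb ⊢
      rw [hb, mul_one, mul_inv_cancel]
    have hcinv : ∀ i, ∀ n ∈ N, ∀ a ∈ c i, n * a * n⁻¹ ∈ c i := by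
      intro i
      fin_cases i
      exacts [hinv W hWinv, hinv A2 hi2, hinv A1 hi1, hbot]
    have hanti : Antitone c := Fin.antitone_iff_succ_le.mpr fun i => by
      fin_cases i
      exacts [map_mono h2W, map_mono h12, bot_le]
    have hstab : ∀ i : Fin 3, ∀ h ∈ closure {s | s ∈ N ∧ ∃ k, orderOf s ∣ p ^ k},
        ∀ w ∈ c i.castSucc, ⁅h, w⁆ ∈ c i.succ := by
      intro i
      refine stab_of_pElements ?_ (hanti (Fin.castSucc_le_succ i)) (hcinv _) (hcinv _) ?_
      · fin_cases i <;> exact hle _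
      · fin_cases i
        · exact relIndex_dvd_of_card (hpA W) (map_mono h2W)
            ((hcard W).trans_le (hc3.trans (Nat.mul_le_mul_left p (hcard A2).ge)))
        · exact relIndex_dvd_of_card (hpA A2) (map_mono h12)
            ((hcard A2).trans_le (hc2.trans (Nat.mul_le_mul_left p (hcard A1).ge)))
        · refine relIndex_dvd_of_card (hpA A1) bot_le ?_
          show Nat.card (A1.map R.subtype) ≤ p * Nat.card (⊥ : Subgroup L)
          rw [hcard, card_bot, mul_one]
          exact hc1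
    have hA : Group.IsSolvable (zpowers g) := inferInstance
    have hcop : (Nat.card (zpowers g)).Coprime (Nat.card (W.map R.subtype)) := by
      obtain ⟨k, hk⟩ := (hpA W).exists_card_eq
      rw [Nat.card_zpowers, hk]
      exact hgo.pow_right k
    have hcent := Coprime.le_centralizer_of_series hcop hA c rfl rfl hanti
      (fun i => zpowers_le.mpr (by
        rw [mem_normalizer_iff]
        intro a
        refine ⟨hcinv i g hgN a, fun h => ?_⟩
        have := hcinv i g⁻¹ (inv_mem hgN) _ h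
        simpa [mul_assoc] using this))
      (fun i => commutator_le.mpr fun w hw h hh => by
        rw [← commutatorElement_inv]
        exact inv_mem (hstab i h (zpowers_le.mpr hg hh) w hw)) (mem_zpowers g)
    set a : MulAut R := R.normalizerMonoidHom ⟨g, hgN⟩ with ha
    have hao : (orderOf a).Coprime p := by
      refine hgo.coprime_dvd_left ((orderOf_map_dvd _ _).trans ?_)
      rw [orderOf_mk]
    have h1 : a = 1 := hfaith a hao fun w hw => by
      have h2 : g * (w : L) * g⁻¹ = w := by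
        have h3 : (w : L) * g = g * w := mem_centralizer_iff.mp hcent (w : L) ⟨w, hw, rfl⟩
        rw [← h3, mul_inv_cancel_right]
      rw [show a w = w from Subtype.ext h2, inv_mul_cancel]
      exact one_mem _
    rw [mem_centralizer_iff]
    intro r hr
    have h2 := congrArg Subtype.val (DFunLike.congr_fun h1 (⟨r, hr⟩ : R))
    exact (mul_inv_eq_iff_eq_mul.mp (h2 : g * r * g⁻¹ = r)).symm
  by_cases hab : ∀ a ∈ W, ∀ b ∈ W, a * b = b * a
  · left
    have hW2 : Nat.card W ≤ p ^ 2 := RankTwo.card_le_of_rank (C.rank_subgroup R) hab hexp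
    refine fin (zpowers x' ⊓ W) (zpowers x' ⊓ W) le_rfl inf_le_right
      (fun φ hφ a ha => ⟨hXinv φ hφ a ha.1, hWinv φ hφ a ha.2⟩)
      (fun φ hφ a ha => ⟨hXinv φ hφ a ha.1, hWinv φ hφ a ha.2⟩)
      ((Nat.le_of_dvd Nat.card_pos (card_dvd_of_le inf_le_left)).trans hX.le)
      (Nat.le_mul_of_pos_left _ hp.out.pos) ?_
    haveI := hWc
    have hmul := Core.card_sup_mul_card_inf (zpowers x') W
    have hU : Nat.card (zpowers x' ⊔ W : Subgroup R) ≤ p ^ 2 := by
      refine RankTwo.card_le_of_rank (C.rank_subgroup R) ?_ ?_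
      · have hle : zpowers x' ⊔ W ≤ centralizer ((zpowers x' ⊔ W : Subgroup R) : Set R) := by
          refine sup_le ?_ ?_
          · rw [zpowers_le]
            exact mem_centralizer_iff.mpr fun b _ => mem_center_iff.mp hx'c b
          · rw [le_centralizer_iff, sup_le_iff, zpowers_le]
            exact ⟨mem_centralizer_iff.mpr fun b _ => mem_center_iff.mp hx'c b,
              fun a ha => mem_centralizer_iff.mpr fun b hb => hab b hb a ha⟩
        exact fun a ha b hb => mem_centralizer_iff.mp (hle hb) a ha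
      · intro a ha
        rw [sup_comm, ← SetLike.mem_coe, normal_mul] at ha
        obtain ⟨w, hw, y, hy, rfl⟩ := ha
        obtain ⟨i, rfl⟩ := mem_zpowers_iff.mp hy
        rw [(Commute.zpow_right (mem_center_iff.mp hx'c w) i).mul_pow, hexp w hw, one_mul,
          ← zpow_natCast, ← zpow_mul, Int.mul_comm, zpow_mul, zpow_natCast, hx'p, one_zpow]
    rw [hX] at hmul
    by_contra hlt
    rw [not_le] at hlt
    have : Nat.card (zpowers x' ⊔ W : Subgroup R) * Nat.card (zpowers x' ⊓ W : Subgroup R) <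
        p * Nat.card W :=
      lt_of_le_of_lt (Nat.mul_le_mul_right _ hU)
        (by rw [pow_two, mul_assoc]; exact Nat.mul_lt_mul_of_pos_left hlt hp.out.pos)
    omega
  push Not at hab
  obtain ⟨a₀, ha₀, b₀, hb₀, hne⟩ := hab
  have hWexp : ∀ w : W, w ^ p = 1 := fun w => Subtype.ext (by simpa using hexp w w.2)
  have hWle : Nat.card W ≤ p ^ 3 := RankTwo.card_le_of_exponent (hR.to_subgroup W) hrW hWexp
  obtain ⟨j, hj⟩ := (hR.to_subgroup W).exists_card_eq
  have hj3 : j = 3 := by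
    rw [hj] at hWle
    have h1 := (Nat.pow_le_pow_iff_right hp.out.one_lt).mp hWle
    by_contra hj3
    refine hne (congrArg Subtype.val
      (?_ : (⟨a₀, ha₀⟩ : W) * ⟨b₀, hb₀⟩ = ⟨b₀, hb₀⟩ * ⟨a₀, ha₀⟩))
    rcases (by omega : j = 0 ∨ j = 1 ∨ j = 2) with rfl | rfl | rfl
    · haveI : Subsingleton W := (Nat.card_eq_one_iff_unique.1 (by rw [hj, pow_zero])).1
      exact Subsingleton.elim _ _
    · haveI : IsCyclic W := isCyclic_of_prime_card (p := p) (by rw [hj, pow_one])
      exact Commute.eq (IsMulCommutative.is_comm.comm _ _)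
    · exact IsPGroup.commutative_of_card_eq_prime_sq hj _ _
  rw [hj3] at hj
  haveI := hWc
  have hxW : x' ∈ W := by
    by_contra hxW
    set U := W ⊔ zpowers x' with hU
    have hUexp : ∀ u : U, u ^ p = 1 := by
      rintro ⟨u, hu⟩
      apply Subtype.ext
      show u ^ p = 1
      rw [hU, sup_comm] at hu
      rw [sup_comm, ← SetLike.mem_coe, normal_mul] at hu
      obtain ⟨w, hw, y, hy, rfl⟩ := hu
      obtain ⟨i, rfl⟩ := mem_zpowers_iff.mp hy
      rw [(Commute.zpow_right (mem_center_iff.mp hx'c w) i).mul_pow, hexp w hw, one_mul,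
        ← zpow_natCast, ← zpow_mul, Int.mul_comm, zpow_mul, zpow_natCast, hx'p, one_zpow]
    have h1 := RankTwo.card_le_of_exponent (hR.to_subgroup U)
      (RankTwo.pRankLE_subgroup (C.rank_subgroup R) U) hUexp
    have h2 := RankTwo.card_mul_le_of_lt hR (lt_of_le_of_ne (le_sup_left : W ≤ U)
      fun h => hxW (h.ge (mem_sup_right (mem_zpowers x'))))
    rw [hj, ← pow_succ'] at h2
    exact absurd ((Nat.pow_le_pow_iff_right hp.out.one_lt).mp (h2.trans h1)) (by norm_num)
  set T := ⁅W, (⊤ : Subgroup R)⁆ ⊔ zpowers x' with hT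
  have hTW : T ≤ W := sup_le (commutator_le_left W ⊤) (zpowers_le.mpr hxW)
  have hTne : T ≠ W := by
    intro h
    have h1 : ⁅W, (⊤ : Subgroup R)⁆ ≤ ⁅⁅W, (⊤ : Subgroup R)⁆, (⊤ : Subgroup R)⁆ := by
      conv_lhs => rw [← h, hT]
      rw [commutator_le]
      intro a ha r hr
      haveI : ⁅W, (⊤ : Subgroup R)⁆.Normal := commutator_normal W ⊤
      rw [← SetLike.mem_coe, normal_mul] at ha
      obtain ⟨m, hm, y, hy, rfl⟩ := ha
      have hyc : y ∈ center R := (zpowers_le.mpr hx'c) hy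
      rw [commutatorElement_mul_left_eq_conj_mul,
        commutatorElement_eq_one_iff_mul_comm.mpr (mem_center_iff.mp hyc r).symm, mul_one,
        mul_inv_cancel, one_mul]
      exact commutator_mem_commutator hm hr
    have hnil := hR.isNilpotent
    obtain ⟨n, hn⟩ := Subgroup.nilpotent_iff_lowerCentralSeries.mp hnil
    have h2 : ∀ i, ⁅W, (⊤ : Subgroup R)⁆ ≤ (⊤ : Subgroup R).lowerCentralSeries i := by
      intro i
      induction i with
      | zero => rw [Subgroup.lowerCentralSeries_zero]; exact le_top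
      | succ i ih =>
        rw [Subgroup.lowerCentralSeries_succ]
        exact h1.trans (commutator_mono ih le_rfl)
    have h3 : ⁅W, (⊤ : Subgroup R)⁆ = ⊥ := le_bot_iff.mp (hn ▸ h2 n)
    refine hne ?_
    have ha₀' : a₀ ∈ center R := by
      refine mem_center_iff.mpr fun r => ?_
      have := commutator_mem_commutator ha₀ (mem_top r)
      rw [h3, mem_bot, commutatorElement_eq_one_iff_mul_comm] at this
      exact this.symm
    exact (mem_center_iff.mp ha₀' b₀).symm
  have hT2 : Nat.card T ≤ p ^ 2 := by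
    have h := RankTwo.card_mul_le_of_lt hR (lt_of_le_of_ne hTW hTne)
    rw [hj, pow_succ'] at h
    exact Nat.le_of_mul_le_mul_left h hp.out.pos
  by_cases hexc : ∀ r : R, ∀ w ∈ W, ⁅r, w⁆ ∈ zpowers x'
  · right
    refine ⟨W.map R.subtype, map_subtype_le _,
      (card_map_of_injective R.subtype_injective).trans hj, ?_, ⟨x', hxW, rfl⟩,
      ⟨a₀, ⟨a₀, ha₀, rfl⟩, b₀, ⟨b₀, hb₀, rfl⟩, fun h => hne (Subtype.ext h)⟩, ?_⟩
    · rintro _ ⟨w, hw, rfl⟩
      rw [← map_pow, hexp w hw, map_one]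
    · rintro r hr _ ⟨w, hw, rfl⟩
      obtain ⟨i, hi⟩ := mem_zpowers_iff.mp (hexc ⟨r, hr⟩ w hw)
      exact ⟨i, by simpa [commutatorElement_def] using congrArg Subtype.val hi⟩
  left
  push Not at hexc
  obtain ⟨r, w, hw, hrw⟩ := hexc
  have hXT : zpowers x' < T := lt_of_le_of_ne le_sup_right fun h => hrw (by
    rw [h]
    refine mem_sup_left ?_
    rw [← commutatorElement_inv]
    exact inv_mem (commutator_mem_commutator hw (mem_top r)))
  have hT2' := RankTwo.card_mul_le_of_lt hR hXT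
  refine fin (zpowers x') T le_sup_right hTW hXinv (fun φ hφ a ha => ?_) hX.le ?_ ?_
  · have hle : T.map φ.toMonoidHom ≤ T := by
      rw [hT, Subgroup.map_sup, map_commutator]
      refine sup_le (le_sup_of_le_left (commutator_mono ?_ le_top)) (le_sup_of_le_right ?_)
      · exact map_le_iff_le_comap.mpr fun v hv => hWinv φ hφ v hv
      · exact map_le_iff_le_comap.mpr fun v hv => hXinv φ hφ v hv
    exact hle ⟨a, ha, rfl⟩
  · rw [hX, ← pow_two]; exact hT2
  · rw [hj, pow_succ']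
    refine Nat.mul_le_mul_left p ?_
    rw [pow_two]
    exact hX ▸ hT2'

end Ctx

end Cfsg.Agent.IsolatedRankTwo
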